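import Mathlib
import Cfsg.Agent.Lib.Dickson.Transfer

/-!
The finite field attached to an abelian group acting freely, with the largest possible order, on an
elementary abelian group of prime rank.
-/

set_option autoImplicit false

namespace Cfsg.Agent.PF14

open scoped IsMulCommutative

/-- A divisor of `p ^ i - 1` and of `p ^ j - 1` divides `p ^ gcd i j - 1`. -/
lemma dvd_pow_gcd_sub_one {n p i j : ℕ} (hi : n ∣ p ^ i - 1) (hj : n ∣ p ^ j - 1) :
    n ∣ p ^ Nat.gcd i j - 1 := by
  have := Nat.dvd_gcd hi hj
  rwa [Nat.pow_sub_one_gcd_pow_sub_one] at this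

/-- `(p ^ q - 1) / (p - 1)` exceeds `p - 1`. -/
lemma sub_one_lt_quot {n p q : ℕ} (hp : 2 ≤ p) (hq : 2 ≤ q) (hn : n * (p - 1) = p ^ q - 1) :
    p - 1 < n := by
  by_contra hle
  push Not at hle
  obtain ⟨k, rfl⟩ := Nat.exists_eq_add_of_le hp
  simp only [show 2 + k - 1 = k + 1 by omega] at hle hn
  have h1 : n * (k + 1) ≤ (k + 1) * (k + 1) := Nat.mul_le_mul_right _ hle
  have h2 : (2 + k) ^ 2 ≤ (2 + k) ^ q := Nat.pow_le_pow_right (by omega) hq
  have h3 : (2 + k) ^ 2 = (k + 1) * (k + 1) + 2 * k + 3 := by ring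
  omega

/-- An abelian subgroup `U` of order `(p ^ q - 1) / (p - 1)` acting freely on an elementary abelian
subgroup `P` of order `p ^ q` makes `P` the additive group of a field of `p ^ q` elements, `U` acting
by scalars, with any given subgroup of order `p` of `P` as the prime field. -/
theorem exists_field_config {G : Type*} [Group G] [Finite G] (p q : ℕ) (hp : p.Prime)
    (hq : q.Prime) (P U W : Subgroup G) (hPc : IsMulCommutative P) (hPexp : ∀ x ∈ P, x ^ p = 1)
    (hPcard : Nat.card P = p ^ q) (hUP : U ≤ Subgroup.normalizer (P : Set G))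
    (hUc : IsMulCommutative U) (hUcard : Nat.card U * (p - 1) = p ^ q - 1)
    (hfree : ∀ u ∈ U, u ≠ 1 → ∀ x ∈ P, u * x = x * u → x = 1)
    (hWP : W ≤ P) (hWcard : Nat.card W = p) :
    IsCyclic U ∧
      ∃ (F : Type) (_ : Field F) (_ : Fintype F) (f : G → F) (ψ : G → F),
        Fintype.card F = p ^ q ∧ Set.BijOn f (P : Set G) Set.univ ∧
          (∀ x ∈ P, ∀ x' ∈ P, f (x * x') = f x + f x') ∧
          (∀ u ∈ U, ψ u ≠ 0 ∧ ∀ x ∈ P, f (u * x * u⁻¹) = ψ u * f x) ∧
          (∀ u ∈ U, ∀ u' ∈ U, ψ (u * u') = ψ u * ψ u') ∧ Set.InjOn ψ (U : Set G) ∧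
          (∀ x ∈ P, x ∈ W ↔ f x ^ p = f x) := by
  classical
  haveI := hPc
  haveI := hUc
  haveI : Fact p.Prime := ⟨hp⟩
  -- the action of `U` on `P`
  have hconj : ∀ u ∈ U, ∀ x ∈ P, u * x * u⁻¹ ∈ P := fun u hu x hx =>
    (Subgroup.mem_normalizer_iff.1 (hUP hu) x).1 hx
  let act : U →* AddMonoid.End (Additive P) :=
    { toFun := fun u =>
        MonoidHom.toAdditive (MonoidHom.mk' (fun x : P =>
          (⟨(u : G) * x * (u : G)⁻¹, hconj u u.2 x x.2⟩ : P))
          (fun a b => Subtype.ext (by simp only [Subgroup.coe_mul]; group)))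
      map_one' := by
        refine AddMonoidHom.ext fun a => ?_
        refine Additive.toMul.injective (Subtype.ext ?_)
        show ((1 : U) : G) * ((Additive.toMul a : P) : G) * ((1 : U) : G)⁻¹ = _
        rw [Subgroup.coe_one, inv_one, one_mul, mul_one]
        rfl
      map_mul' := fun a b => by
        refine AddMonoidHom.ext fun c => ?_
        refine Additive.toMul.injective (Subtype.ext ?_)
        show ((a * b : U) : G) * (Additive.toMul c : P) * ((a * b : U) : G)⁻¹ =
          (a : G) * ((b : G) * (Additive.toMul c : P) * (b : G)⁻¹) * (a : G)⁻¹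
        simp only [Subgroup.coe_mul]; group }
  have hact : ∀ (u : U) (a : Additive P),
      ((Additive.toMul (act u a) : P) : G) = (u : G) * (Additive.toMul a : P) * (u : G)⁻¹ :=
    fun u a => rfl
  haveI : Finite (AddMonoid.End (Additive P)) := Finite.of_injective _ DFunLike.coe_injective
  -- the only invariant subgroups are the trivial ones
  have hirr : ∀ L : AddSubgroup (Additive P), (∀ u : U, ∀ a ∈ L, act u a ∈ L) → L = ⊥ ∨ L = ⊤ := by
    intro L hL
    have hcardA : Nat.card (Additive P) = p ^ q :=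
      (Nat.card_congr Additive.toMul).trans hPcard
    obtain ⟨k, hkq, hk⟩ := (Nat.dvd_prime_pow hp).1 (hcardA ▸ L.card_addSubgroup_dvd_card)
    rcases Nat.eq_zero_or_pos k with rfl | hk0
    · left; exact L.eq_bot_of_card_eq (by simpa using hk)
    rcases hkq.lt_or_eq with hlt | rfl
    swap
    · right; exact L.eq_top_of_card_eq (hk.trans hcardA.symm)
    exfalso
    letI : MulAction U L :=
      { smul := fun u a => ⟨act u a, hL u a a.2⟩
        one_smul := fun a => Subtype.ext (by show act 1 a = a; rw [map_one]; rfl)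
        mul_smul := fun u v a => Subtype.ext (by
          show act (u * v) a = act u (act v a); rw [map_mul]; rfl) }
    have hzero : ∀ u : U, u • (0 : L) = 0 := fun u => Subtype.ext (map_zero (act u))
    -- the orbits on the non-zero elements are regular
    letI : MulAction U {a : L // a ≠ 0} :=
      { smul := fun u a => ⟨u • (a : L), fun e => a.2 (by
          have := congrArg (u⁻¹ • ·) e
          simpa [hzero] using this)⟩
        one_smul := fun a => Subtype.ext (one_smul U (a : L))
        mul_smul := fun u v a => Subtype.ext (mul_smul u v (a : L)) }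
    have hstab : ∀ a : {a : L // a ≠ 0}, MulAction.stabilizer U a = ⊥ := by
      intro a
      rw [Subgroup.eq_bot_iff_forall]
      intro u hu
      by_contra hne
      have e : act u ((a : L) : Additive P) = ((a : L) : Additive P) :=
        congrArg (fun b : {a : L // a ≠ 0} => ((b : L) : Additive P)) (MulAction.mem_stabilizer_iff.1 hu)
      have e' := congrArg (fun b => ((Additive.toMul b : P) : G)) e
      simp only [hact] at e'
      have h1 := hfree u u.2 (fun h => hne (Subtype.ext h)) _ (Additive.toMul ((a : L) : Additive P)).2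
        (mul_inv_eq_iff_eq_mul.1 e')
      exact a.2 (Subtype.ext (Additive.toMul.injective (Subtype.ext h1)))
    have hdvd : Nat.card U ∣ p ^ k - 1 := by
      have hcard : Nat.card {a : L // a ≠ 0} = p ^ k - 1 := by
        haveI := Fintype.ofFinite L
        rw [← hk, Nat.card_eq_fintype_card, Nat.card_eq_fintype_card, Fintype.card_subtype_compl,
          Fintype.card_subtype_eq]
      rw [← hcard, Nat.card_congr (MulAction.selfEquivSigmaOrbitsQuotientStabilizer U {a : L // a ≠ 0}),
        Nat.card_congr (Equiv.sigmaCongrRight fun ω => by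
          rw [hstab]; exact (QuotientGroup.quotientBot (G := U)).toEquiv :
          (Σ ω : Quotient (MulAction.orbitRel U {a : L // a ≠ 0}),
            U ⧸ MulAction.stabilizer U ω.out) ≃ (Σ _ω : Quotient (MulAction.orbitRel U {a : L // a ≠ 0}), U)),
        Nat.card_congr (Equiv.sigmaEquivProd _ U), Nat.card_prod]
      exact dvd_mul_left _ _
    have hdq : Nat.card U ∣ p ^ q - 1 := ⟨p - 1, hUcard.symm⟩
    have h1 := dvd_pow_gcd_sub_one hdvd hdq
    rw [Nat.Coprime.gcd_eq_one ((Nat.coprime_comm.1 ((hq.coprime_iff_not_dvd).2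
      (Nat.not_dvd_of_pos_of_lt hk0 hlt)))), pow_one] at h1
    exact absurd (Nat.le_of_dvd (by have := hp.two_le; omega) h1)
      (not_le.2 (sub_one_lt_quot hp.two_le hq.two_le hUcard))
  -- the field generated by `U`
  let S : Set (AddMonoid.End (Additive P)) := Set.range act
  have hS : ∀ x ∈ S, ∀ y ∈ S, x * y = y * x := by
    rintro _ ⟨a, rfl⟩ _ ⟨b, rfl⟩
    rw [← map_mul, ← map_mul, hUc.is_comm.comm a b]
  let R := Subring.closure S
  have hRc : IsMulCommutative R := Subring.isMulCommutative_closure hS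
  have hcomm : ∀ f ∈ R, ∀ u : U, act u * f = f * act u := fun f hf u =>
    congrArg Subtype.val
      (hRc.is_comm.comm (⟨act u, Subring.subset_closure ⟨u, rfl⟩⟩ : R) ⟨f, hf⟩)
  have hker : ∀ f ∈ R, f ≠ 0 → ∀ v : Additive P, f v = 0 → v = 0 := by
    intro f hf hf0 v hv
    rcases hirr (AddMonoidHom.ker (f : Additive P →+ Additive P)) (fun u a ha => by
      have h1 : act u (f a) = f (act u a) :=
        congrArg (fun g : AddMonoid.End (Additive P) => g a) (hcomm f hf u)
      have ha' : f a = 0 := ha
      show f (act u a) = 0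
      rw [← h1, ha', map_zero]) with h | h
    · have : v ∈ AddMonoidHom.ker (f : Additive P →+ Additive P) := hv
      rwa [h, AddSubgroup.mem_bot] at this
    · exact absurd (AddMonoidHom.ext fun w => by
        have : w ∈ AddMonoidHom.ker (f : Additive P →+ Additive P) := h ▸ AddSubgroup.mem_top w
        exact this) hf0
  obtain ⟨x₀, hx₀⟩ := (isCyclic_of_prime_card (α := W) hWcard).exists_generator
  let v₀ : Additive P := Additive.ofMul ⟨(x₀ : G), hWP x₀.2⟩
  have hv₀ : v₀ ≠ 0 := by
    intro h
    have h1 : x₀ = 1 := Subtype.ext (congrArg (fun b => ((Additive.toMul b : P) : G)) h)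
    have : Nat.card W = 1 := by
      rw [Nat.card_eq_one_iff_unique]
      refine ⟨⟨fun a b => ?_⟩, ⟨1⟩⟩
      obtain ⟨i, hi⟩ := Subgroup.mem_zpowers_iff.1 (hx₀ a)
      obtain ⟨j, hj⟩ := Subgroup.mem_zpowers_iff.1 (hx₀ b)
      rw [← hi, ← hj, h1, one_zpow, one_zpow]
    exact hp.one_lt.ne' (hWcard.symm.trans this)
  haveI : Nontrivial R := ⟨⟨0, 1, fun e => hv₀
    (congrArg (fun g : AddMonoid.End (Additive P) => g v₀) (congrArg Subtype.val e)).symm⟩⟩
  haveI : NoZeroDivisors R := ⟨fun {f g} hfg => by
    by_contra hc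
    push Not at hc
    have e : (f : AddMonoid.End (Additive P)) ((g : AddMonoid.End (Additive P)) v₀) = 0 :=
      congrArg (fun u : AddMonoid.End (Additive P) => u v₀) (congrArg Subtype.val hfg)
    exact hv₀ (hker g g.2 (fun e' => hc.2 (Subtype.ext e')) v₀
      (hker f f.2 (fun e' => hc.1 (Subtype.ext e')) _ e))⟩
  haveI : IsDomain R := NoZeroDivisors.to_isDomain R
  letI : Field R := (Finite.isField_of_domain R).toField
  let ev : R →+ Additive P :=
    AddMonoidHom.mk' (fun f => (f : AddMonoid.End (Additive P)) v₀) (fun f g => rfl)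
  have hev : Function.Bijective ev := by
    refine ⟨(injective_iff_map_eq_zero ev).mpr (fun f hf => ?_), ?_⟩
    · by_contra hne
      exact hv₀ (hker f f.2 (fun e => hne (Subtype.ext e)) v₀ hf)
    · refine AddMonoidHom.range_eq_top.mp ((hirr ev.range (fun u v hv => ?_)).resolve_left ?_)
      · obtain ⟨f, rfl⟩ := hv
        exact ⟨⟨act u, Subring.subset_closure ⟨u, rfl⟩⟩ * f, rfl⟩
      · intro e
        have : v₀ ∈ ev.range := ⟨1, rfl⟩
        rw [e, AddSubgroup.mem_bot] at this
        exact hv₀ this
  obtain ⟨F, iF, iFt, ⟨φ⟩⟩ := Dickson.exists_field_type0 R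
  let E : Additive P ≃+ F := (AddEquiv.ofBijective ev hev).symm.trans φ.toAddEquiv
  have hev_symm : ∀ r : R, (AddEquiv.ofBijective ev hev).symm (ev r) = r :=
    (AddEquiv.ofBijective ev hev).symm_apply_apply
  let χ : U →* F := φ.toMonoidHom.comp
    { toFun := fun u => (⟨act u, Subring.subset_closure ⟨u, rfl⟩⟩ : R)
      map_one' := Subtype.ext (map_one act)
      map_mul' := fun a b => Subtype.ext (map_mul act a b) }
  have hχinj : Function.Injective χ := by
    intro a b e
    have e1 : act a = act b := congrArg Subtype.val (φ.injective e)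
    by_contra hne
    have h2 : act (b⁻¹ * a) v₀ = v₀ := by
      rw [map_mul, e1, ← map_mul, inv_mul_cancel, map_one]; rfl
    have e' := congrArg (fun c => ((Additive.toMul c : P) : G)) h2
    simp only [hact] at e'
    have := hfree _ (b⁻¹ * a).2 (fun h => hne (inv_mul_eq_one.1 (Subtype.ext h)).symm) _
      (Additive.toMul v₀).2 (mul_inv_eq_iff_eq_mul.1 e')
    exact hv₀ (Additive.toMul.injective (Subtype.ext this))
  have hcardF : Nat.card F = p ^ q :=
    ((Nat.card_congr E.toEquiv).symm.trans (Nat.card_congr Additive.toMul)).trans hPcard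
  refine ⟨isCyclic_of_subgroup_isDomain χ hχinj,
    F, iF, iFt, fun g => if hg : g ∈ P then E (Additive.ofMul ⟨g, hg⟩) else 0,
    fun g => if hg : g ∈ U then χ ⟨g, hg⟩ else 0, ?_⟩
  have hE : ∀ {g : G} (hg : g ∈ P),
      (if hg : g ∈ P then E (Additive.ofMul ⟨g, hg⟩) else 0) = E (Additive.ofMul ⟨g, hg⟩) :=
    fun hg => dif_pos hg
  refine ⟨by rw [← Nat.card_eq_fintype_card, hcardF], ⟨fun _ _ => Set.mem_univ _, ?_, ?_⟩, ?_, ?_,
    ?_, ?_, ?_⟩
  · intro a ha b hb e
    dsimp only at e
    rw [hE ha, hE hb] at e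
    exact congrArg Subtype.val (Additive.ofMul.injective (E.injective e))
  · intro t _
    refine ⟨((Additive.toMul (E.symm t) : P) : G), (Additive.toMul (E.symm t)).2, ?_⟩
    dsimp only
    rw [hE (Additive.toMul (E.symm t)).2]
    exact E.apply_symm_apply t
  · intro x hx y hy
    dsimp only
    rw [hE hx, hE hy, hE (mul_mem hx hy), ← map_add]
    rfl
  · intro u hu
    refine ⟨?_, fun x hx => ?_⟩
    · dsimp only
      rw [dif_pos hu]
      exact ((Group.isUnit (⟨u, hu⟩ : U)).map χ).ne_zero
    · dsimp only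
      rw [dif_pos hu, hE hx, hE (hconj u hu x hx)]
      obtain ⟨r, hr⟩ := hev.surjective (Additive.ofMul ⟨x, hx⟩)
      have h1 : Additive.ofMul (⟨u * x * u⁻¹, hconj u hu x hx⟩ : P) =
          act ⟨u, hu⟩ (Additive.ofMul ⟨x, hx⟩) := rfl
      rw [h1, ← hr]
      have h2 : act ⟨u, hu⟩ (ev r) = ev (⟨act ⟨u, hu⟩, Subring.subset_closure ⟨_, rfl⟩⟩ * r) := rfl
      rw [h2]
      show φ ((AddEquiv.ofBijective ev hev).symm (ev _)) =
        _ * φ ((AddEquiv.ofBijective ev hev).symm (ev r))
      rw [hev_symm, hev_symm, map_mul]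
      rfl
  · intro u hu u' hu'
    dsimp only
    rw [dif_pos hu, dif_pos hu', dif_pos (mul_mem hu hu'), ← map_mul]
    rfl
  · intro a ha b hb e
    have ha' : a ∈ U := ha
    have hb' : b ∈ U := hb
    dsimp only at e
    rw [dif_pos ha', dif_pos hb'] at e
    exact congrArg Subtype.val (hχinj e)
  · intro x hx
    dsimp only
    rw [hE hx]
    haveI : CharP F p := charP_of_card_eq_prime_pow (by rw [← Nat.card_eq_fintype_card, hcardF])
    have hv : ∀ n : ℕ, E (n • v₀) = (n : F) := by
      intro n
      rw [map_nsmul]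
      have h1 : E v₀ = 1 := by
        show φ ((AddEquiv.ofBijective ev hev).symm (ev 1)) = 1
        rw [hev_symm, map_one]
      rw [h1, nsmul_one]
    constructor
    · intro hxW
      obtain ⟨n, hn⟩ := (mem_powers_iff_mem_zpowers (x := x₀)).2 (hx₀ ⟨x, hxW⟩)
      have : Additive.ofMul (⟨x, hx⟩ : P) = n • v₀ := by
        refine Additive.toMul.injective (Subtype.ext ?_)
        simp only [v₀, toMul_nsmul, toMul_ofMul, SubgroupClass.coe_pow]
        exact (congrArg Subtype.val hn).symm
      rw [this, hv, ← map_natCast (ZMod.castHom dvd_rfl F), ← map_pow, ZMod.pow_card]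
    · intro hfx
      obtain ⟨n, hn⟩ : ∃ n : ℕ, (n : F) = E (Additive.ofMul ⟨x, hx⟩) := by
        by_contra hc
        push Not at hc
        let T : Finset F := insert (E (Additive.ofMul ⟨x, hx⟩))
          (Finset.univ.image fun z : ZMod p => ZMod.castHom dvd_rfl F z)
        have hT : T.card = p + 1 := by
          rw [Finset.card_insert_of_notMem, Finset.card_image_of_injective _
            (ZMod.castHom dvd_rfl F).injective, Finset.card_univ, ZMod.card]
          simp only [Finset.mem_image, Finset.mem_univ, true_and, not_exists]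
          intro z hz
          apply hc z.val
          rw [← hz, ← map_natCast (ZMod.castHom dvd_rfl F), ZMod.natCast_zmod_val]
        have hroot : T.card ≤ (Polynomial.X ^ p - Polynomial.X : Polynomial F).natDegree :=
          Polynomial.card_le_degree_of_subset_roots (Z := T) (by
            intro z hz
            rw [Polynomial.mem_roots (FiniteField.X_pow_card_sub_X_ne_zero F hp.one_lt)]
            have hz' : z ∈ T := hz
            rcases Finset.mem_insert.1 hz' with rfl | hz'
            · simp [Polynomial.IsRoot, hfx]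
            · obtain ⟨a, -, rfl⟩ := Finset.mem_image.1 hz'
              rw [Polynomial.IsRoot, Polynomial.eval_sub, Polynomial.eval_pow, Polynomial.eval_X,
                ← map_pow, ZMod.pow_card, sub_self])
        rw [hT, FiniteField.X_pow_card_sub_X_natDegree_eq F hp.one_lt] at hroot
        omega
      have h1 : n • v₀ = Additive.ofMul (⟨x, hx⟩ : P) := E.injective ((hv n).trans hn)
      have h2 := congrArg (fun c => ((Additive.toMul c : P) : G)) h1
      simp only [v₀, toMul_nsmul, toMul_ofMul, SubgroupClass.coe_pow] at h2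
      rw [← h2]
      exact pow_mem x₀.2 n

end Cfsg.Agent.PF14
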