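import Mathlib
import Cfsg.Agent.S1546
import Cfsg.Agent.PF.FieldConfig

/-!
Consequences of `|U| = (p ^ q - 1) / (p - 1)` for a group `U` with an automorphism of order `q`
without non-trivial fixed points, acting faithfully on an elementary abelian group of order `p ^ q`.
-/

set_option autoImplicit false

namespace Cfsg.Agent.PF14

/-- A group of prime order `q` acting without fixed points on a group `U` forces `|U| ≡ 1 (mod q)`. -/
theorem card_mod_of_prime_fpf {G : Type*} [Group G] [Finite G] {q : ℕ} (hq : q.Prime)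
    (U W : Subgroup G) (hWcard : Nat.card W = q) (hWU : W ≤ Subgroup.normalizer (U : Set G))
    (hfix : U ⊓ Subgroup.centralizer (W : Set G) = ⊥) :
    Nat.card U % q = 1 := by
  haveI : Fact q.Prime := ⟨hq⟩
  letI : MulAction W U :=
    { smul := fun w u => ⟨(w : G) * u * (w : G)⁻¹, (Subgroup.mem_normalizer_iff.1 (hWU w.2) u).1 u.2⟩
      one_smul := fun u => Subtype.ext (by
        show ((1 : W) : G) * u * ((1 : W) : G)⁻¹ = u
        simp)
      mul_smul := fun a b u => Subtype.ext (by
        show ((a * b : W) : G) * u * ((a * b : W) : G)⁻¹ = a * ((b : G) * u * (b : G)⁻¹) * (a : G)⁻¹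
        simp only [Subgroup.coe_mul]; group) }
  have h := (IsPGroup.of_card (n := 1) (by rw [hWcard, pow_one]) : IsPGroup q W).card_modEq_card_fixedPoints U
  have h1 : Nat.card (MulAction.fixedPoints W U) = 1 := by
    rw [Nat.card_eq_one_iff_unique]
    refine ⟨⟨fun a b => Subtype.ext ?_⟩, ⟨⟨1, fun w => Subtype.ext (by
      show (w : G) * ((1 : U) : G) * (w : G)⁻¹ = _; simp)⟩⟩⟩
    have hone : ∀ a : MulAction.fixedPoints W U, (a : U) = 1 := by
      intro a
      have hmem : ((a : U) : G) ∈ U ⊓ Subgroup.centralizer (W : Set G) := by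
        refine ⟨(a : U).2, Subgroup.mem_centralizer_iff.2 fun w hw => ?_⟩
        exact mul_inv_eq_iff_eq_mul.1 (congrArg Subtype.val (a.2 ⟨w, hw⟩))
      rw [hfix, Subgroup.mem_bot] at hmem
      exact Subtype.ext hmem
    rw [hone a, hone b]
  rw [h1] at h
  exact Eq.trans h (Nat.mod_eq_of_lt hq.one_lt)

/-- When a group of order `(p ^ q - 1) / (p - 1)` has a fixed-point-free automorphism of order `q`,
that order is prime to `p - 1`. -/
theorem coprime_of_full_order {p q n : ℕ} (hp : p.Prime) (hq : q.Prime) (hp2 : p ≠ 2) (hq2 : q ≠ 2)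
    (hn : n * (p - 1) = p ^ q - 1) (hmod : n % q = 1) :
    Nat.Coprime ((p ^ q - 1) / (p - 1)) (p - 1) := by
  have he : (p ^ q - 1) / (p - 1) = n := by
    rw [← hn]; exact Nat.mul_div_cancel _ (by have := hp.two_le; omega)
  obtain ⟨-, h1, h2⟩ := S1546.result p q hp hq hp2 hq2
  refine (h2 fun h => ?_).1
  have := Nat.mod_eq_zero_of_dvd (he ▸ h1 h)
  omega

/-- A faithful abelian group of order `(p ^ q - 1) / (p - 1)`, prime to `p - 1`, acts freely on a
group of order `p ^ q`. -/
theorem free_of_full_order {G : Type*} [Group G] [Finite G] {p q : ℕ} (hp : p.Prime) (hq : q.Prime)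
    (P U : Subgroup G) (hPcard : Nat.card P = p ^ q) (hUP : U ≤ Subgroup.normalizer (P : Set G))
    (hUcard : Nat.card U * (p - 1) = p ^ q - 1) (hcop : Nat.Coprime (Nat.card U) (p - 1))
    (hfaith : U ⊓ Subgroup.centralizer (P : Set G) = ⊥) :
    ∀ u ∈ U, u ≠ 1 → ∀ x ∈ P, u * x = x * u → x = 1 := by
  intro u hu hu1 x hx hcomm
  by_contra hx1
  -- pass to a power of prime order
  obtain ⟨r, hr, hrd⟩ := Nat.exists_prime_and_dvd (mt orderOf_eq_one_iff.1 hu1)
  set v := u ^ (orderOf u / r) with hv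
  have hvord : orderOf v = r := orderOf_pow_orderOf_div (orderOf_pos u).ne' hrd
  have hvU : v ∈ U := pow_mem hu _
  have hvx : x ∈ P ⊓ Subgroup.centralizer ({v} : Set G) :=
    ⟨hx, Subgroup.mem_centralizer_iff.2 fun y hy => by
      rw [Set.mem_singleton_iff.1 hy]; exact (Commute.pow_left hcomm _).eq⟩
  set C := P ⊓ Subgroup.centralizer ({v} : Set G) with hC
  haveI : Fact r.Prime := ⟨hr⟩
  letI : MulAction (Subgroup.zpowers v) P :=
    { smul := fun w y => ⟨(w : G) * y * (w : G)⁻¹,
        (Subgroup.mem_normalizer_iff.1 (hUP ((Subgroup.zpowers_le.2 hvU) w.2)) y).1 y.2⟩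
      one_smul := fun y => Subtype.ext (by
        show ((1 : Subgroup.zpowers v) : G) * y * ((1 : Subgroup.zpowers v) : G)⁻¹ = y
        simp)
      mul_smul := fun a b y => Subtype.ext (by
        show ((a * b : Subgroup.zpowers v) : G) * y * ((a * b : Subgroup.zpowers v) : G)⁻¹ =
          a * ((b : G) * y * (b : G)⁻¹) * (a : G)⁻¹
        simp only [Subgroup.coe_mul]; group) }
  have h := (IsPGroup.of_card (n := 1) (by rw [Nat.card_zpowers, hvord, pow_one]) :
    IsPGroup r (Subgroup.zpowers v)).card_modEq_card_fixedPoints P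
  have hfp : Nat.card (MulAction.fixedPoints (Subgroup.zpowers v) P) = Nat.card C := by
    refine Nat.card_congr
      { toFun := fun y => ⟨((y : P) : G), (y : P).2, Subgroup.mem_centralizer_iff.2 fun z hz => by
          rw [Set.mem_singleton_iff.1 hz]
          exact mul_inv_eq_iff_eq_mul.1
            (congrArg Subtype.val (y.2 ⟨v, Subgroup.mem_zpowers v⟩))⟩
        invFun := fun y => ⟨⟨(y : G), y.2.1⟩, fun w => Subtype.ext (by
          obtain ⟨k, hk⟩ := Subgroup.mem_zpowers_iff.1 w.2
          have h0 : v * (y : G) = y * v :=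
            Subgroup.mem_centralizer_iff.1 y.2.2 v (Set.mem_singleton v)
          show (w : G) * y * (w : G)⁻¹ = y
          rw [← hk, (Commute.zpow_left (show Commute v (y : G) from h0) k).eq, mul_inv_cancel_right])⟩
        left_inv := fun y => rfl
        right_inv := fun y => rfl }
  rw [hfp, hPcard] at h
  obtain ⟨k, hkq, hk⟩ := (Nat.dvd_prime_pow hp).1 (hPcard ▸ Subgroup.card_dvd_of_le (inf_le_left : C ≤ P))
  have hk0 : 0 < k := by
    rcases Nat.eq_zero_or_pos k with rfl | h0
    · rw [pow_zero] at hk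
      have hvx' : x ∈ C := hvx
      have hC0 : C = ⊥ := Subgroup.card_eq_one.1 hk
      rw [hC0, Subgroup.mem_bot] at hvx'
      exact absurd hvx' hx1
    · exact h0
  have hklt : k < q := by
    refine lt_of_le_of_ne hkq fun e => ?_
    have hCP : C = P := Subgroup.eq_of_le_of_card_ge inf_le_left (by rw [hk, e, hPcard])
    have hvC : v ∈ U ⊓ Subgroup.centralizer (P : Set G) :=
      ⟨hvU, Subgroup.mem_centralizer_iff.2 fun y hy => by
        have hy' : y ∈ C := hCP.symm ▸ hy
        exact (Subgroup.mem_centralizer_iff.1 hy'.2 v (Set.mem_singleton v)).symm⟩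
    rw [hfaith, Subgroup.mem_bot] at hvC
    rw [hvC, orderOf_one] at hvord
    exact hr.one_lt.ne hvord
  have hrU : r ∣ Nat.card U := by
    rw [← hvord]
    exact Subgroup.orderOf_dvd_natCard U hvU
  have hrq : r ∣ p ^ q - 1 := hrU.trans ⟨p - 1, hUcard.symm⟩
  have hrp : ¬ r ∣ p := fun hd => by
    have h1 : r ∣ 1 := by
      have h2 : r ∣ p ^ q := dvd_pow hd hq.ne_zero
      have h3 := Nat.dvd_sub h2 hrq
      rwa [Nat.sub_sub_self (Nat.one_le_pow _ _ hp.pos)] at h3
    exact hr.one_lt.ne' (Nat.dvd_one.1 h1)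
  have hdiff : r ∣ p ^ (q - k) - 1 := by
    rw [hk] at h
    have h1 : r ∣ p ^ q - p ^ k :=
      (Nat.modEq_iff_dvd' (Nat.pow_le_pow_right hp.pos hkq)).1 h.symm
    rw [show p ^ q - p ^ k = p ^ k * (p ^ (q - k) - 1) by
      rw [Nat.mul_sub, ← pow_add, Nat.add_sub_cancel' hkq, mul_one]] at h1
    exact (hr.dvd_mul.1 h1).resolve_left fun hd => hrp (hr.dvd_of_dvd_pow hd)
  have h2 := dvd_pow_gcd_sub_one hdiff hrq
  rw [Nat.Coprime.gcd_eq_one (Nat.coprime_comm.1 ((hq.coprime_iff_not_dvd).2
    (Nat.not_dvd_of_pos_of_lt (by omega) (by omega)))), pow_one] at h2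
  exact hr.one_lt.ne' (Nat.dvd_one.1 (hcop ▸ Nat.dvd_gcd hrU h2))

end Cfsg.Agent.PF14
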