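import Cfsg.Prelude.Def_OddOrderLocal
import Cfsg.Agent.BGSummary.TypeTools
import Cfsg.Agent.PF.FullOrder

/-!
The configuration handed to the last arithmetic step of the odd order theorem, assembled from the
facts on a pair of maximal subgroups of type `P` that the character theory delivers.
-/

set_option autoImplicit false

namespace Cfsg.Agent.PF14

open Cfsg

universe u

variable {G : Type u} [Group G]

lemma complement_le {M W₁ U W₂ : Subgroup G} (h : IsTypePWith M W₁ U W₂) : U ≤ M :=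
  h.U_compl.2.1.trans h.W₁_compl.1

lemma inf_centralizer_eq_bot {M W₁ U W₂ : Subgroup G} (h : IsTypePWith M W₁ U W₂) :
    U ⊓ Subgroup.centralizer (W₁ : Set G) = ⊥ := by
  obtain ⟨w, hw, hw1⟩ := (W₁.ne_bot_iff_exists_ne_one.1 h.W₁_ne).elim fun a ha =>
    (⟨(a : G), a.2, fun e => ha (Subtype.ext e)⟩ : ∃ w ∈ W₁, w ≠ 1)
  rw [eq_bot_iff, ← h.U_compl.2.2.1]
  rintro x ⟨hxU, hxc⟩
  refine ⟨?_, hxU⟩
  have hx2 : x ∈ W₂ := by
    rw [← h.W₂_centralizer w hw hw1]
    exact ⟨h.U_compl.2.1 hxU, Subgroup.mem_centralizer_iff.2 fun y hy => by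
      rw [Set.mem_singleton_iff.1 hy]; exact Subgroup.mem_centralizer_iff.1 hxc w hw⟩
  exact (h.W₂_le hx2).1

/-- The conclusion of the final configuration, from: the orders of the kernels and complements,
faithfulness of the complement, and a conjugate of `W₂` normalizing it. -/
theorem final_config [Finite G] (hodd : Odd (Nat.card G)) {S T W₁ W₂ U V : Subgroup G}
    (hSP : IsTypePWith S W₁ U W₂) (hTP : IsTypePWith T W₂ V W₁)
    (hq : (Nat.card W₁).Prime) (hp : (Nat.card W₂).Prime) (hne : Nat.card W₁ ≠ Nat.card W₂)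
    (hPel : IsElementaryAbelian (Nat.card W₂) (fittingHallOf S))
    (hPcard : Nat.card (fittingHallOf S) = Nat.card W₂ ^ Nat.card W₁)
    (hQel : IsElementaryAbelian (Nat.card W₁) (fittingHallOf T))
    (hQcard : Nat.card (fittingHallOf T) = Nat.card W₁ ^ Nat.card W₂)
    (hUc : IsMulCommutative U)
    (hUcard : Nat.card U * (Nat.card W₂ - 1) = Nat.card W₂ ^ Nat.card W₁ - 1)
    (hfaith : U ⊓ Subgroup.centralizer (fittingHallOf S : Set G) = ⊥)
    (hy : ∃ y ∈ fittingHallOf T,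
      W₂.map (MulAut.conj y).toMonoidHom ≤ Subgroup.normalizer (U : Set G)) :
    (Nat.card W₁).Prime ∧ (Nat.card W₂).Prime ∧ IsElementaryAbelian (Nat.card W₂) (fittingHallOf S) ∧
      Nat.card (fittingHallOf S) = Nat.card W₂ ^ Nat.card W₁ ∧ IsCyclic U ∧
      Nat.card U * (Nat.card W₂ - 1) = Nat.card W₂ ^ Nat.card W₁ - 1 ∧
      (∀ u ∈ U, u ≠ 1 → ∀ x ∈ fittingHallOf S, u * x = x * u → x = 1) ∧
      Nat.Coprime ((Nat.card W₂ ^ Nat.card W₁ - 1) / (Nat.card W₂ - 1)) (Nat.card W₂ - 1) ∧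
      U ≤ Subgroup.normalizer (fittingHallOf S : Set G) ∧
      (Nat.card (fittingHallOf T)).Coprime (Nat.card W₂) ∧
      IsElementaryAbelian (Nat.card W₁) (fittingHallOf T) ∧
      W₂ ≤ Subgroup.normalizer (fittingHallOf T : Set G) ∧
      ∃ y ∈ fittingHallOf T, W₂.map (MulAut.conj y).toMonoidHom ≤ Subgroup.normalizer (U : Set G) ∧
        ∃ (F : Type) (_ : Field F) (_ : Fintype F) (f : G → F) (ψ : G → F),
          Fintype.card F = Nat.card W₂ ^ Nat.card W₁ ∧
          Set.BijOn f (fittingHallOf S : Set G) Set.univ ∧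
          (∀ x ∈ fittingHallOf S, ∀ x' ∈ fittingHallOf S, f (x * x') = f x + f x') ∧
          (∀ u ∈ U, ψ u ≠ 0 ∧ ∀ x ∈ fittingHallOf S, f (u * x * u⁻¹) = ψ u * f x) ∧
          (∀ u ∈ U, ∀ u' ∈ U, ψ (u * u') = ψ u * ψ u') ∧ Set.InjOn ψ (U : Set G) ∧
          (∀ x ∈ fittingHallOf S, x ∈ W₂ ↔ f x ^ Nat.card W₂ = f x) := by
  have hUP : U ≤ Subgroup.normalizer (fittingHallOf S : Set G) :=
    (complement_le hSP).trans (BGSummary.le_normalizer_fittingHallOf S)
  have hodd' : ∀ X : Subgroup G, (Nat.card X).Prime → Nat.card X ≠ 2 := fun X _ e => by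
    obtain ⟨k, hk⟩ := hodd.of_dvd_nat (Subgroup.card_subgroup_dvd_card X)
    omega
  have hmod := card_mod_of_prime_fpf hq U W₁ rfl hSP.U_normal (inf_centralizer_eq_bot hSP)
  have hcop := coprime_of_full_order hp hq (hodd' W₂ hp) (hodd' W₁ hq) hUcard hmod
  have hUN : (Nat.card W₂ ^ Nat.card W₁ - 1) / (Nat.card W₂ - 1) = Nat.card U := by
    rw [← hUcard]; exact Nat.mul_div_cancel _ (by have := hp.two_le; omega)
  have hfree := free_of_full_order hp hq (fittingHallOf S) U hPcard hUP hUcard (hUN ▸ hcop) hfaith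
  obtain ⟨hcyc, F, iF, iFt, f, ψ, hF⟩ := exists_field_config (Nat.card W₂) (Nat.card W₁) hp hq
    (fittingHallOf S) U W₂ hPel.1 hPel.2 hPcard hUP hUc hUcard hfree
    (hSP.W₂_le.trans inf_le_left) rfl
  obtain ⟨y, hyT, hyU⟩ := hy
  refine ⟨hq, hp, hPel, hPcard, hcyc, hUcard, hfree, hcop, hUP, ?_, hQel,
    hTP.W₁_compl.2.1.trans (BGSummary.le_normalizer_fittingHallOf T), y, hyT, hyU,
    F, iF, iFt, f, ψ, hF⟩
  rw [hQcard]
  exact ((Nat.coprime_primes hq hp).2 hne).pow_left _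

end Cfsg.Agent.PF14
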