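import Cfsg.Agent.PF.Eta
import Cfsg.Agent.OddChar.PrimeTIK
import Cfsg.Agent.CharDeep.Expand
import Cfsg.Agent.S1500
import Cfsg.Agent.S1501

/-!
Peterfalvi, Hypothesis (4.6), (4.7) and (4.8): the Dade map on differences of the characters
`μ` of `L` attached to `W = W₁W₂` gives the corresponding differences of the `η` of `G`.
-/

set_option autoImplicit false

namespace Cfsg.Agent.PF

open Cfsg OddChar OddChar.CycTI OddChar.PrimeTI
open scoped ComplexConjugate

/-! ### A vanishing criterion (Peterfalvi (4.7)) -/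

section Vanish

variable {K : Type*} [Group K] [Fintype K]

theorem sum_normSq_irr (x : K) :
    ∑ θ : IrrCharacter K, Complex.normSq ((θ : K → ℂ) x) =
      (Nat.card K : ℝ) / Nat.card {z : K // IsConj x z} := by
  have h := CharDeep.sum_irr_mul_conj x x
  have h1 : BlocksCore.classInd x x = 1 := by
    simp only [BlocksCore.classInd]
    rw [Set.indicator_of_mem]
    · simp
    · exact ⟨1, by simp⟩
  rw [h1, mul_one] at h
  have hne := CharDeep.class_card_ne_zero x
  have e : ((∑ θ : IrrCharacter K, Complex.normSq ((θ : K → ℂ) x) : ℝ) : ℂ) =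
      (((Nat.card K : ℝ) / Nat.card {z : K // IsConj x z} : ℝ) : ℂ) := by
    push_cast
    rw [eq_div_iff hne, ← h, mul_comm]
    refine congrArg _ (Finset.sum_congr rfl fun θ _ => (Complex.mul_conj _).symm)
  exact_mod_cast e

/-- An irreducible character whose kernel misses part of a normal subgroup `N` vanishes at every
element centralised by no non-identity element of `N`. -/
theorem apply_eq_zero_of_free (N : Subgroup K) [N.Normal] {x : K}
    (hfree : ∀ n ∈ N, n * x = x * n → n = 1) {θ : K → ℂ} (hθ : IsIrrCharacter K θ)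
    (hN : ∃ n ∈ N, θ n ≠ θ 1) : θ x = 0 := by
  classical
  haveI : Fintype (K ⧸ N) := Fintype.ofFinite _
  haveI : Fintype N := Fintype.ofFinite _
  let π := QuotientGroup.mk' N
  have hπ : Function.Surjective π := QuotientGroup.mk'_surjective N
  let infl : IrrCharacter (K ⧸ N) → IrrCharacter K := fun ψ =>
    ⟨fun k => (ψ : K ⧸ N → ℂ) (π k), CharCore.isIrrCharacter_comp_surjective ψ.2 π hπ⟩
  have hinj : Function.Injective infl := fun a b e => Subtype.ext (funext fun q => by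
    obtain ⟨k, rfl⟩ := hπ q
    exact congrFun (congrArg Subtype.val e) k)
  have hnot : (⟨θ, hθ⟩ : IrrCharacter K) ∉ Finset.univ.image infl := by
    rw [Finset.mem_image]
    rintro ⟨ψ, -, e⟩
    obtain ⟨n, hn, hne⟩ := hN
    refine hne ?_
    have h := congrArg Subtype.val e
    simp only [infl] at h
    rw [← congrFun h n, ← congrFun h 1]
    rw [map_one, show π n = 1 from (QuotientGroup.eq_one_iff n).2 hn]
  -- the class of `x` is the full preimage of the class of its image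
  have hclass : Nat.card {q : K ⧸ N // IsConj (π x) q} * Nat.card N ≤
      Nat.card {z : K // IsConj x z} := by
    rw [← Nat.card_prod]
    let g : {q : K ⧸ N // IsConj (π x) q} × N → {z : K // IsConj x z} := fun t =>
      ⟨(t.1.1).out * (t.2 : K), by
        obtain ⟨qq, hqq⟩ := t.1
        obtain ⟨d, hd⟩ := isConj_iff.1 hqq
        obtain ⟨k, rfl⟩ := hπ d
        have hm : π (k⁻¹ * ((qq.out : K) * (t.2 : K)) * k * x⁻¹) = 1 := by
          have e1 : π (qq.out : K) = qq := QuotientGroup.out_eq' qq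
          have e2 : π (t.2 : K) = 1 := (QuotientGroup.eq_one_iff _).2 t.2.2
          simp only [map_mul, map_inv, e1, e2, mul_one]
          rw [← hd]; group
        let f : N → N := fun n => ⟨(n : K) * (x * (n : K)⁻¹ * x⁻¹),
          N.mul_mem n.2 (Subgroup.Normal.conj_mem inferInstance _ (N.inv_mem n.2) x)⟩
        have hf : Function.Injective f := by
          intro a b e
          have e' : (a : K) * (x * (a : K)⁻¹ * x⁻¹) = b * (x * (b : K)⁻¹ * x⁻¹) :=
            congrArg Subtype.val e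
          have h1 := hfree ((b : K)⁻¹ * a) (N.mul_mem (N.inv_mem b.2) a.2) (by
            calc (b : K)⁻¹ * a * x = (b : K)⁻¹ * ((a : K) * (x * (a : K)⁻¹ * x⁻¹)) * x * a := by group
              _ = x * ((b : K)⁻¹ * a) := by rw [e']; group)
          exact Subtype.ext (inv_mul_eq_one.1 h1).symm
        obtain ⟨n, hn⟩ := Finite.surjective_of_injective hf ⟨_, (QuotientGroup.eq_one_iff _).1 hm⟩
        have hn' : (n : K) * (x * (n : K)⁻¹ * x⁻¹) = k⁻¹ * ((qq.out : K) * (t.2 : K)) * k * x⁻¹ :=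
          congrArg Subtype.val hn
        refine isConj_iff.2 ⟨k * n, ?_⟩
        calc k * (n : K) * x * (k * (n : K))⁻¹ = k * ((n : K) * (x * (n : K)⁻¹ * x⁻¹)) * x * k⁻¹ := by
              group
          _ = (qq.out : K) * (t.2 : K) := by rw [hn']; group⟩
    refine Nat.card_le_card_of_injective g ?_
    rintro ⟨⟨a, ha⟩, m⟩ ⟨⟨b, hb⟩, m'⟩ e
    have e' : (a.out : K) * (m : K) = b.out * (m' : K) := congrArg Subtype.val e
    have hab : a = b := by
      have := congrArg π e'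
      rw [map_mul, map_mul, show π (m : K) = 1 from (QuotientGroup.eq_one_iff _).2 m.2,
        show π (m' : K) = 1 from (QuotientGroup.eq_one_iff _).2 m'.2, mul_one, mul_one] at this
      simpa [π, QuotientGroup.out_eq'] using this
    subst hab
    exact Prod.ext rfl (Subtype.ext (mul_left_cancel e'))
  have hQ := sum_normSq_irr (π x)
  have hK := sum_normSq_irr x
  have hle : (Nat.card K : ℝ) / Nat.card {z : K // IsConj x z} ≤
      (Nat.card (K ⧸ N) : ℝ) / Nat.card {q : K ⧸ N // IsConj (π x) q} := by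
    have p1 : 0 < Nat.card {z : K // IsConj x z} :=
      Nat.card_pos_iff.2 ⟨⟨⟨x, IsConj.refl x⟩⟩, inferInstance⟩
    have p2 : 0 < Nat.card {q : K ⧸ N // IsConj (π x) q} :=
      Nat.card_pos_iff.2 ⟨⟨⟨π x, IsConj.refl _⟩⟩, inferInstance⟩
    rw [div_le_div_iff₀ (by exact_mod_cast p1) (by exact_mod_cast p2)]
    have : Nat.card K * Nat.card {q : K ⧸ N // IsConj (π x) q} ≤
        Nat.card (K ⧸ N) * Nat.card {z : K // IsConj x z} := by
      rw [Subgroup.card_eq_card_quotient_mul_card_subgroup N, mul_assoc, mul_comm (Nat.card N)]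
      exact Nat.mul_le_mul_left _ hclass
    exact_mod_cast this
  have himg : ∑ θ' ∈ Finset.univ.image infl, Complex.normSq ((θ' : K → ℂ) x) =
      ∑ ψ : IrrCharacter (K ⧸ N), Complex.normSq ((ψ : K ⧸ N → ℂ) (π x)) :=
    Finset.sum_image fun a _ b _ e => hinj e
  have hsplit : ∑ θ' ∈ insert (⟨θ, hθ⟩ : IrrCharacter K) (Finset.univ.image infl),
      Complex.normSq ((θ' : K → ℂ) x) ≤ ∑ θ' : IrrCharacter K, Complex.normSq ((θ' : K → ℂ) x) :=
    Finset.sum_le_sum_of_subset_of_nonneg (Finset.subset_univ _) fun _ _ _ => Complex.normSq_nonneg _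
  rw [Finset.sum_insert hnot, himg, hQ, hK] at hsplit
  exact Complex.normSq_eq_zero.1 (le_antisymm (by linarith) (Complex.normSq_nonneg _))

end Vanish

/-! ### The hypothesis -/

variable {G : Type*} [Group G]

/-- Peterfalvi, Hypothesis (4.6). -/
structure PrimeDade (A A₀ : Set G) (L : Subgroup G) (R : G → Subgroup G)
    (K H W₁ W₂ : Subgroup L) : Prop where
  pti : PrimeTI.Hyp K W₁ W₂
  cyc : IsSelfNormalizingCyclic (W₁.map L.subtype) (W₂.map L.subtype)
  normal : H.Normal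
  le₂ : W₂ ≤ H
  leK : H ≤ K
  subA : ∀ x : L, (x : G) ∈ A → x ∈ K
  centA : ∀ x ∈ K, x ≠ 1 → ∀ n ∈ H, n ≠ 1 → n * x = x * n → (x : G) ∈ A
  leA₀ : A ⊆ A₀
  offA₀ : ∀ w : ↥(W₁ ⊔ W₂), (w : L) ∉ W₁ → (w : L) ∉ W₂ → ((w : L) : G) ∈ A₀
  dade : DadeHypothesis A₀ L R

variable {A A₀ : Set G} {L : Subgroup G} {R : G → Subgroup G} {K H W₁ W₂ : Subgroup L}
variable [Fintype G] [Fintype L]
variable {η : (↥(W₁ ⊔ W₂) →* ℂˣ) → G → ℂ}
variable {χ : (↥(W₁ ⊔ W₂) →* ℂˣ) → (L → ℂ)}

/-- (4.7), on `K`: an irreducible character whose kernel does not contain `H`. -/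
theorem PrimeDade.irr_on (P : PrimeDade A A₀ L R K H W₁ W₂) {θ : K → ℂ}
    (hθ : IsIrrCharacter K θ) (hH : ∃ n : K, (n : L) ∈ H ∧ θ n ≠ θ 1) {x : K} (hx1 : x ≠ 1)
    (hxA : ((x : L) : G) ∉ A) : θ x = 0 := by
  have := P.normal
  haveI : Fintype K := Fintype.ofFinite _
  obtain ⟨n, hn, hne⟩ := hH
  refine apply_eq_zero_of_free (H.subgroupOf K) (fun m hm e => ?_) hθ
    ⟨n, Subgroup.mem_subgroupOf.2 hn, hne⟩
  by_contra hm1
  exact hxA (P.centA x x.2 (fun h => hx1 (Subtype.ext h)) m (Subgroup.mem_subgroupOf.1 hm)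
    (fun h => hm1 (Subtype.ext h)) (congrArg Subtype.val e))

/-- (4.7), induced from `K`: supported on `1` and `A`. -/
theorem PrimeDade.ind_on (P : PrimeDade A A₀ L R K H W₁ W₂) {θ : K → ℂ}
    (hθ : IsIrrCharacter K θ) (hH : ∃ n : K, (n : L) ∈ H ∧ θ n ≠ θ 1) {x : L} (hx1 : x ≠ 1)
    (hxA : (x : G) ∉ A) : indFun K θ x = 0 := by
  have := P.pti.normal
  rw [CharInd.indFun_apply, Finset.sum_eq_zero, mul_zero]
  intro y _
  by_cases hm : y⁻¹ * x * y ∈ K
  · rw [CharInd.extendByZero_mem _ hm]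
    have := P.normal
    obtain ⟨n, hn, hne⟩ := hH
    haveI : Fintype K := Fintype.ofFinite _
    refine apply_eq_zero_of_free (H.subgroupOf K) (fun m hm' e => ?_) hθ
      ⟨n, Subgroup.mem_subgroupOf.2 hn, hne⟩
    by_contra hm1
    have e' : (m : L) * (y⁻¹ * x * y) = y⁻¹ * x * y * (m : L) := congrArg Subtype.val e
    have hxK : x ∈ K := by
      have := Subgroup.Normal.conj_mem ‹K.Normal› _ hm y
      simpa [mul_assoc] using this
    refine hxA (P.centA x hxK hx1 (y * (m : L) * y⁻¹)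
      (Subgroup.Normal.conj_mem ‹H.Normal› _ (Subgroup.mem_subgroupOf.1 hm') y)
      (fun h => hm1 (Subtype.ext (by simpa using h))) ?_)
    calc y * (m : L) * y⁻¹ * x = y * ((m : L) * (y⁻¹ * x * y)) * y⁻¹ := by group
      _ = y * (y⁻¹ * x * y * (m : L)) * y⁻¹ := by rw [e']
      _ = x * (y * (m : L) * y⁻¹) := by group
  · exact CharInd.extendByZero_notMem _ hm

/-- A non-trivial character of `W₂` gives a character of `K` whose kernel does not contain `H`. -/
theorem PrimeDade.restrict_H (P : PrimeDade A A₀ L R K H W₁ W₂) (F : Fam P.pti χ)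
    {ω : ↥(W₁ ⊔ W₂) →* ℂˣ} (hω : ∃ w : ↥(W₁ ⊔ W₂), (w : L) ∈ W₂ ∧ ω w ≠ 1) :
    ∃ n : K, (n : L) ∈ H ∧ (sgn χ ω • χ ω) n ≠ (sgn χ ω • χ ω) 1 := by
  classical
  obtain ⟨w, hw, hne⟩ := hω
  by_contra hall
  push Not at hall
  refine hne (Units.ext ?_)
  have hs := P.pti.split
  -- `w a` with `a ∈ W₁#`, outside both factors
  obtain ⟨a, ha, ha1⟩ := (Subgroup.ne_bot_iff_exists_ne_one.1 P.pti.ne₁).elim fun a h =>
    (⟨(a : L), a.2, fun e => h (Subtype.ext e)⟩ : ∃ a : L, a ∈ W₁ ∧ a ≠ 1)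
  let u : ↥(W₁ ⊔ W₂) := ⟨a, Subgroup.mem_sup_left ha⟩
  have hdis : ∀ z, z ∈ W₁ → z ∈ W₂ → z = 1 := fun z h1 h2 =>
    Subgroup.mem_bot.1 (hs.disj ▸ (⟨h1, h2⟩ : z ∈ W₁ ⊓ W₂))
  have hua : ((u * w : ↥(W₁ ⊔ W₂)) : L) ∉ W₂ := fun h => ha1 (hdis a ha (by
    have := W₂.mul_mem h (W₂.inv_mem hw)
    simpa using this))
  have hu2 : ((u : ↥(W₁ ⊔ W₂)) : L) ∉ W₂ := fun h => ha1 (hdis a ha h)
  have hμ : IsIrrCharacter L (sgn χ ω • χ ω) := F.irr_sgn ω
  have hker : ∀ g : L, (sgn χ ω • χ ω) (g * w) = (sgn χ ω • χ ω) g := by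
    intro g
    obtain ⟨d, σ, -, hl⟩ := hμ
    have h0 := hall ⟨w, P.pti.le hw⟩ (P.le₂ hw)
    simp only [OneMemClass.coe_one] at h0
    rw [← hl, Representation.char_one] at h0
    have h1 := (CharCore.character_eq_finrank_iff σ (w : L)).1 h0
    rw [← hl]
    simp only [Representation.character, map_mul, h1]
    rfl
  have h := hker a
  have e1 := F.on_off ω (u * w) hua
  have e2 := F.on_off ω u hu2
  simp only [Pi.smul_apply, smul_eq_mul] at h
  rw [show ((u * w : ↥(W₁ ⊔ W₂)) : L) = a * w from rfl] at e1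
  rw [show ((u : ↥(W₁ ⊔ W₂)) : L) = a from rfl] at e2
  rw [e1, e2, map_mul, Units.val_mul] at h
  rcases sgn_sq χ ω with s | s <;> rw [s] at h <;>
    simpa using h

/-- (4.7) for the characters of the family: zero on `K` outside `1` and `A`. -/
theorem PrimeDade.fam_on_K (P : PrimeDade A A₀ L R K H W₁ W₂) (F : Fam P.pti χ)
    {ω : ↥(W₁ ⊔ W₂) →* ℂˣ} (hω : ∃ w : ↥(W₁ ⊔ W₂), (w : L) ∈ W₂ ∧ ω w ≠ 1) {x : L} (hx : x ∈ K)
    (hx1 : x ≠ 1) (hxA : (x : G) ∉ A) : χ ω x = 0 := by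
  haveI : Fintype K := Fintype.ofFinite _
  have h := P.irr_on (F.restrict_irr ω) (P.restrict_H F hω) (x := ⟨x, hx⟩)
    (fun e => hx1 (congrArg Subtype.val e)) hxA
  simp only [Pi.smul_apply, smul_eq_mul] at h
  rcases sgn_sq χ ω with e | e <;> simpa [e] using h

theorem nontrivial_on₂ {φ j : ↥(W₁ ⊔ W₂) →* ℂˣ} (hφ : φ ∈ D1 W₁ W₂) (hj : j ∈ D2 W₁ W₂)
    (hj1 : j ≠ 1) : ∃ w : ↥(W₁ ⊔ W₂), (w : L) ∈ W₂ ∧ (φ * j) w ≠ 1 := by
  by_contra h
  push Not at h
  refine hj1 (eq_of_eq_on W₁ W₂ (fun w hw => ?_) fun w hw => ?_)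
  · exact hj w hw
  · have := h w hw
    rwa [MonoidHom.mul_apply, hφ w hw, one_mul] at this

/-- A signed irreducible meets at most one member of an orthonormal family of them. -/
theorem Eta.exists_point (E : Eta L W₁ W₂ η) {α : G → ℂ} (hα : IsSignedIrr α) :
    ∃ p, ∀ ω, ω ≠ p → classInner α (η ω) = 0 := by
  by_cases he : ∃ ω, classInner α (η ω) ≠ 0
  · obtain ⟨p, hp⟩ := he
    refine ⟨p, fun ω hω => ?_⟩
    rcases signed_eq_or_inner hα (E.signed p) with e | e | e
    · rw [e]; exact E.orth p ω hω.symm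
    · rw [e, CharCore.classInner_neg_left, E.orth p ω hω.symm, neg_zero]
    · exact absurd e hp
  · push Not at he
    exact ⟨1, fun ω _ => he ω⟩

theorem sub_inner_cases {α β γ : G → ℂ} (hα : IsSignedIrr α) (hβ : IsSignedIrr β)
    (hγ : IsSignedIrr γ) (hαβ : classInner α β = 0) :
    classInner (α - β) γ = 0 ∨ classInner (α - β) γ = 1 ∨ classInner (α - β) γ = -1 := by
  rw [CharCore.classInner_sub_left]
  have hγγ := signed_inner_self hγ
  have hβα : classInner β α = 0 := by rw [← CharCore.conj_classInner, hαβ, map_zero]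
  rcases signed_eq_or_inner hα hγ with e | e | e
  · rw [← e, signed_inner_self hα, hβα]; simp
  · have h : classInner β γ = 0 := by
      rw [show γ = -α by rw [e, neg_neg], CharCore.classInner_neg_right, hβα, neg_zero]
    rw [e, CharCore.classInner_neg_left, hγγ, h]; simp
  · rw [e]
    rcases signed_eq_or_inner hβ hγ with e' | e' | e'
    · rw [e', hγγ]; simp
    · rw [e', CharCore.classInner_neg_left, hγγ]; simp
    · rw [e']; simp

/-- (4.8): `τ` on a difference of two characters of equal degree in one row. -/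
theorem PrimeDade.tau_sub (P : PrimeDade A A₀ L R K H W₁ W₂) (F : Fam P.pti χ)
    (E : Eta L W₁ W₂ η) {φ j k : ↥(W₁ ⊔ W₂) →* ℂˣ} (hφ : φ ∈ D1 W₁ W₂) (hj : j ∈ D2 W₁ W₂)
    (hk : k ∈ D2 W₁ W₂) (hj1 : j ≠ 1) (hk1 : k ≠ 1) (hjk : j ≠ k) (hdeg : χ j 1 = χ k 1) :
    dadeIsometry A₀ L R (χ (φ * j) - χ (φ * k)) = η (φ * j) - η (φ * k) := by
  classical
  have hne : φ * j ≠ φ * k := fun e => hjk (mul_inj W₁ W₂ hφ hφ hj hk e).2
  have hs := P.pti.split
  have hgenχ : ∀ ω, IsGeneralizedCharacter L (χ ω) := fun ω =>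
    IsSignedIrr.isGeneralizedCharacter (F.fam.irr_or_neg ω)
  set f := χ (φ * j) - χ (φ * k) with hf
  have hfgen : IsGeneralizedCharacter L f := Coherence.gen_sub (hgenχ _) (hgenχ _)
  have hfcl : IsClassFunction L f := CharCore.IsGeneralizedCharacter.isClassFunction hfgen
  have hsupp : ∀ x : L, (x : G) ∉ A₀ → f x = 0 := by
    intro x hx
    by_cases hxK : x ∈ K
    · by_cases hx1 : x = 1
      · subst hx1
        rw [hf, Pi.sub_apply, F.twist φ hφ, F.twist φ hφ]
        simp only [map_one, Units.val_one, one_mul, hdeg, sub_self]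
      · have hxA : (x : G) ∉ A := fun h => hx (P.leA₀ h)
        rw [hf, Pi.sub_apply, P.fam_on_K F (nontrivial_on₂ hφ hj hj1) hxK hx1 hxA,
          P.fam_on_K F (nontrivial_on₂ hφ hk hk1) hxK hx1 hxA, sub_zero]
    · obtain ⟨y, w, hw, rfl⟩ := P.pti.exists_conj hxK
      have hconj : f (y⁻¹ * w * y) = f w := by simpa using hfcl (w : L) y⁻¹
      by_cases hw1 : (w : L) ∈ W₁
      · rw [hconj, hf, Pi.sub_apply, F.on_off _ w hw, F.on_off _ w hw, MonoidHom.mul_apply,
          MonoidHom.mul_apply, hj w hw1, hk w hw1, sub_self]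
      · refine absurd ?_ hx
        have := P.dade.conj_mem ((y⁻¹ : L) : G) (y⁻¹).2 _ (P.offA₀ w hw1 hw)
        simpa using this
  set ψ := dadeIsometry A₀ L R f with hψ
  have hψgen : IsGeneralizedCharacter G ψ := S1501.result A₀ L R P.dade f hfgen hsupp
  have hψcl : IsClassFunction G ψ := CharCore.IsGeneralizedCharacter.isClassFunction hψgen
  have hψnorm : classInner ψ ψ = 2 := by
    rw [hψ, (S1500.result A₀ L R P.dade f hfcl hsupp).1 f hfcl hsupp, hf,
      CharCore.classInner_sub_left, CharCore.classInner_sub_right, CharCore.classInner_sub_right,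
      F.fam.orthonormal, F.fam.orthonormal, F.fam.orthonormal, F.fam.orthonormal, if_pos rfl,
      if_pos rfl, if_neg hne, if_neg hne.symm]
    norm_num
  obtain ⟨α, β, hα, hβ, hαβ, heq⟩ := exists_sub_of_norm_two hψgen hψnorm
  obtain ⟨p, hp⟩ := E.exists_point hα
  obtain ⟨q, hq⟩ := E.exists_point hβ
  have hval : ∀ w : ↥(W₁ ⊔ W₂), (w : L) ∉ W₁ → (w : L) ∉ W₂ →
      ψ ((w : L) : G) = ((φ * j) w : ℂ) - ((φ * k) w : ℂ) := by
    intro w h1 h2
    rw [hψ, dadeIsometry_apply P.dade hfcl (a := (w : L)) (P.offA₀ w h1 h2) (u := 1)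
      (Subgroup.one_mem _) (x := 1) (by simp), hf, Pi.sub_apply, F.on_off _ w h2, F.on_off _ w h2]
  set θ := ψ - η (φ * j) + η (φ * k) with hθ
  have hθcl : IsClassFunction G θ := fun a b => by
    simp only [hθ, Pi.add_apply, Pi.sub_apply, hψcl a b, E.isClassFun _ a b]
  have hθV : ∀ w : ↥(W₁ ⊔ W₂), (w : L) ∉ W₁ → (w : L) ∉ W₂ → θ ((w : L) : G) = 0 := by
    intro w h1 h2
    simp only [hθ, Pi.add_apply, Pi.sub_apply, hval w h1 h2, E.eq_on _ w h1 h2]
    ring
  haveI := hs.finite_dual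
  haveI : Fintype ↥(D1 W₁ W₂) := Fintype.ofFinite _
  haveI : Fintype ↥(D2 W₁ W₂) := Fintype.ofFinite _
  obtain ⟨p1, hp1, p2, hp2, hpe⟩ := CycTI.exists_factor W₁ W₂ hs.disj hs.comm p
  obtain ⟨q1, hq1, q2, hq2, hqe⟩ := CycTI.exists_factor W₁ W₂ hs.disj hs.comm q
  obtain ⟨o1, o2, h31, h32, hne12⟩ := card_facts P.pti.selfNorm P.pti.odd
  have inj : ∀ (a : ↥(D1 W₁ W₂)) (b : ↥(D2 W₁ W₂)) (a' : ↥(D1 W₁ W₂)) (b' : ↥(D2 W₁ W₂)),
      a.1 * b.1 = a'.1 * b'.1 → (a, b) = (a', b') := fun a b a' b' e => by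
    obtain ⟨u, v⟩ := mul_inj W₁ W₂ a.2 a'.2 b.2 b'.2 e
    exact Prod.ext (Subtype.ext u) (Subtype.ext v)
  have hdiff : ∀ ω, classInner θ (η ω) =
      classInner ψ (η ω) - (if φ * j = ω then 1 else 0) + (if φ * k = ω then 1 else 0) := by
    intro ω
    rw [hθ, CharCore.classInner_add_left, CharCore.classInner_sub_left]
    congr 1
    · congr 1
      split_ifs with h
      · rw [h]; exact E.self ω
      · exact E.orth _ _ h
    · split_ifs with h
      · rw [h]; exact E.self ω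
      · exact E.orth _ _ h
  obtain ⟨hcj, hck⟩ := GridRigid.grid_two (X := ↥(D1 W₁ W₂)) (Y := ↥(D2 W₁ W₂))
    (by rw [← Nat.card_eq_fintype_card, hs.card_d1]; exact h31)
    (by rw [← Nat.card_eq_fintype_card, hs.card_d2]; exact h32)
    (by rw [← Nat.card_eq_fintype_card, ← Nat.card_eq_fintype_card, hs.card_d1, hs.card_d2]
        obtain ⟨a, ha⟩ := o1
        obtain ⟨b, hb⟩ := o2
        omega)
    (fun i l => classInner ψ (η (i.1 * l.1))) (⟨p1, hp1⟩, ⟨p2, hp2⟩) (⟨q1, hq1⟩, ⟨q2, hq2⟩)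
    (fun i l a b => by
      rw [heq, CharCore.classInner_sub_left, hp _ fun e => a (inj i l ⟨p1, hp1⟩ ⟨p2, hp2⟩ (e.trans hpe.symm)),
        hq _ fun e => b (inj i l ⟨q1, hq1⟩ ⟨q2, hq2⟩ (e.trans hqe.symm)), sub_zero])
    (fun i l => by rw [heq]; exact sub_inner_cases hα hβ (E.signed _) hαβ)
    ⟨φ, hφ⟩ ⟨j, hj⟩ ⟨k, hk⟩ (fun e => hjk (congrArg Subtype.val e))
    (fun i l => classInner θ (η (i.1 * l.1)))
    (fun i l a b => by
      rw [hdiff, if_neg fun e => a (inj i l ⟨φ, hφ⟩ ⟨j, hj⟩ e.symm),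
        if_neg fun e => b (inj i l ⟨φ, hφ⟩ ⟨k, hk⟩ e.symm), sub_zero, add_zero])
    (by rw [hdiff, if_pos rfl, if_neg hne.symm, add_zero])
    (by rw [hdiff, if_neg hne, if_pos rfl, sub_zero])
    (fun i i' l l' => by
      rw [E.additive θ hθcl hθV i.1 i.2 l.1 l.2, E.additive θ hθcl hθV i'.1 i'.2 l'.1 l'.2,
        E.additive θ hθcl hθV i.1 i.2 l'.1 l'.2, E.additive θ hθcl hθV i'.1 i'.2 l.1 l.2]
      ring)
  have hfin : classInner θ θ = 0 := by
    have s1 : classInner (η (φ * j)) ψ = 1 := by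
      rw [← CharCore.conj_classInner, hcj, map_one]
    have s2 : classInner (η (φ * k)) ψ = -1 := by
      rw [← CharCore.conj_classInner, hck, map_neg, map_one]
    rw [hθ]
    simp only [CharCore.classInner_add_left, CharCore.classInner_sub_left,
      CharCore.classInner_add_right, CharCore.classInner_sub_right, hψnorm, hcj, hck, s1, s2,
      E.self, E.orth _ _ hne, E.orth _ _ hne.symm]
    norm_num
  have h0 := Coherence.inner_self_eq_zero.1 hfin
  funext g
  have := congrFun h0 g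
  simp only [hθ, Pi.add_apply, Pi.sub_apply, Pi.zero_apply] at this
  rw [Pi.sub_apply]
  linear_combination this

end Cfsg.Agent.PF
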