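import Cfsg.Agent.PF.PrimeCols
import Cfsg.Agent.S1517
import Cfsg.Agent.Coherence.Grow

/-!
Peterfalvi (5.7), (5.8) and (4.9): the coherence system on the functions induced from `K`, and
the images of the `μ_j` under a coherent extension.
-/

set_option autoImplicit false

namespace Cfsg.Agent.PF

open Cfsg OddChar OddChar.CycTI OddChar.PrimeTI
open scoped ComplexConjugate Classical

variable {G : Type*} [Group G] [Fintype G]
variable {A A₀ : Set G} {L : Subgroup G} [Fintype L] {R : G → Subgroup G}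
variable {K H W₁ W₂ : Subgroup L} [Fintype ↥(D1 W₁ W₂)]
variable {η : (↥(W₁ ⊔ W₂) →* ℂˣ) → G → ℂ}
variable {χ : (↥(W₁ ⊔ W₂) →* ℂˣ) → (L → ℂ)}

/-- The signed members of two columns. -/
noncomputable def colFam (η : (↥(W₁ ⊔ W₂) →* ℂˣ) → G → ℂ) (s : ℂ) (j k : ↥(W₁ ⊔ W₂) →* ℂˣ) :
    ↥(D1 W₁ W₂) ⊕ ↥(D1 W₁ W₂) → (G → ℂ) :=
  Sum.elim (fun φ => s • η (φ.1 * j)) (fun φ => -(s • η (φ.1 * k)))

/-- The set attached to `μ_j` when `conj μ_j = μ_k`. -/
noncomputable def colR (η : (↥(W₁ ⊔ W₂) →* ℂˣ) → G → ℂ) (s : ℂ) (j k : ↥(W₁ ⊔ W₂) →* ℂˣ) :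
    Finset (G → ℂ) :=
  Finset.univ.image (colFam η s j k)

theorem mem_colR {α : G → ℂ} {s : ℂ} {j k : ↥(W₁ ⊔ W₂) →* ℂˣ} (h : α ∈ colR η s j k) :
    ∃ φ : ↥(D1 W₁ W₂), ∃ c : ℂ, α = c • η (φ.1 * j) ∨ α = c • η (φ.1 * k) := by
  obtain ⟨x | x, -, rfl⟩ := Finset.mem_image.1 h
  · exact ⟨x, s, Or.inl rfl⟩
  · exact ⟨x, -s, Or.inr (neg_smul s _).symm⟩

variable (E : Eta L W₁ W₂ η)

section ColR

variable {j k : ↥(W₁ ⊔ W₂) →* ℂˣ} (hj : j ∈ D2 W₁ W₂) (hk : k ∈ D2 W₁ W₂) (hjk : j ≠ k)
variable {s : ℂ} (hs : s = 1 ∨ s = -1)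

include E hj hk hjk hs

theorem colFam_inner (a b : ↥(D1 W₁ W₂) ⊕ ↥(D1 W₁ W₂)) :
    classInner (colFam η s j k a) (colFam η s j k b) = if a = b then 1 else 0 := by
  have hss : conj s * s = 1 := by rcases hs with e | e <;> simp [e]
  have ne : ∀ x y : ↥(D1 W₁ W₂), x.1 * j ≠ y.1 * k := fun x y e =>
    hjk (mul_inj W₁ W₂ x.2 y.2 hj hk e).2
  rcases a with x | x <;> rcases b with y | y <;>
    simp only [colFam, Sum.elim_inl, Sum.elim_inr, CharCore.classInner_neg_left,
      CharCore.classInner_neg_right, CharCore.classInner_smul_left,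
      CharCore.classInner_smul_right, neg_neg]
  · simp only [E.orthonormal, mul_neg, neg_neg, ← mul_assoc, hss, one_mul]
    by_cases e : x = y
    · subst e; simp
    · rw [if_neg fun q => e (Subtype.ext (mul_inj W₁ W₂ x.2 y.2 hj hj q).1),
        if_neg fun q => e (Sum.inl_injective q)]
  · rw [E.orth _ _ (ne x y), if_neg (by simp)]; simp
  · rw [E.orth _ _ (ne y x).symm, if_neg (by simp)]; simp
  · simp only [E.orthonormal, mul_neg, neg_neg, ← mul_assoc, hss, one_mul]
    by_cases e : x = y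
    · subst e; simp
    · rw [if_neg fun q => e (Subtype.ext (mul_inj W₁ W₂ x.2 y.2 hk hk q).1),
        if_neg fun q => e (Sum.inr_injective q)]

theorem colFam_injective : Function.Injective (colFam η s j k) := fun a b e => by
  by_contra hne
  have h1 := colFam_inner E hj hk hjk hs a b
  rw [if_neg hne, e, colFam_inner E hj hk hjk hs b b, if_pos rfl] at h1
  exact one_ne_zero h1

theorem colR_orthonormal : ∀ α ∈ colR η s j k, ∀ β ∈ colR η s j k,
    classInner α β = if α = β then 1 else 0 := by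
  intro α hα β hβ
  obtain ⟨a, -, rfl⟩ := Finset.mem_image.1 hα
  obtain ⟨b, -, rfl⟩ := Finset.mem_image.1 hβ
  rw [colFam_inner E hj hk hjk hs a b]
  by_cases e : a = b
  · simp [e]
  · rw [if_neg e, if_neg fun q => e (colFam_injective E hj hk hjk hs q)]

theorem colR_sum : ∑ α ∈ colR η s j k, α = s • (col η j - col η k) := by
  rw [colR, Finset.sum_image (fun a _ b _ e => colFam_injective E hj hk hjk hs e),
    Fintype.sum_sum_type, col, col, smul_sub, Finset.smul_sum, Finset.smul_sum]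
  simp only [colFam, Sum.elim_inl, Sum.elim_inr, Finset.sum_neg_distrib]
  exact (sub_eq_add_neg _ _).symm

omit hjk hs hk hj in
theorem colR_virtual (hs : s = 1 ∨ s = -1) :
    ∀ α ∈ colR η s j k, IsGeneralizedCharacter G α := by
  intro α hα
  obtain ⟨x | x, -, rfl⟩ := Finset.mem_image.1 hα <;>
    have h := (E.signed (x.1 * j)).isGeneralizedCharacter <;>
    have h' := (E.signed (x.1 * k)).isGeneralizedCharacter <;>
    rcases hs with e | e <;> subst e <;>
    simp only [colFam, Sum.elim_inl, Sum.elim_inr, one_smul, neg_smul, neg_neg] <;>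
    first
      | exact h
      | exact h'
      | exact Coherence.gen_neg h
      | exact Coherence.gen_neg h'

end ColR

variable (P : PrimeDade A A₀ L R K H W₁ W₂) (F : Fam P.pti χ)

/-- What the set `r` attached to a member `φ` looks like. -/
def RSpec (K : Subgroup L) (χ : (↥(W₁ ⊔ W₂) →* ℂˣ) → (L → ℂ))
    (η : (↥(W₁ ⊔ W₂) →* ℂˣ) → G → ℂ) (φ : L → ℂ) (r : Finset (G → ℂ)) : Prop :=
  (∃ μ : G → ℂ, IsIrrCharacter G μ ∧ IsIrrCharacter L φ ∧ conjFun μ ≠ μ ∧
      r = {μ, -conjFun μ} ∧ ∀ ω, classInner μ (η ω) = 0 ∧ classInner (conjFun μ) (η ω) = 0) ∨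
    ∃ j ∈ D2 W₁ W₂, ∃ k ∈ D2 W₁ W₂, j ≠ 1 ∧ k ≠ 1 ∧ j ≠ k ∧ φ = mu K χ j ∧
      conjFun φ = mu K χ k ∧ r = colR η (sgn χ j) j k

include E P F

theorem RSpec.inner_eta {φ : L → ℂ} {r : Finset (G → ℂ)} (h : RSpec K χ η φ r)
    (ω : ↥(W₁ ⊔ W₂) →* ℂˣ)
    (hω : ∀ j ∈ D2 W₁ W₂, j ≠ 1 → (φ = mu K χ j ∨ conjFun φ = mu K χ j) →
      ∀ x ∈ D1 W₁ W₂, ω ≠ x * j) {α : G → ℂ} (hα : α ∈ r) : classInner α (η ω) = 0 := by
  rcases h with ⟨μ, -, -, -, rfl, ho⟩ | ⟨j, hj, k, hk, hj1, hk1, -, e1, e2, rfl⟩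
  · rcases Finset.mem_insert.1 hα with e | e
    · rw [e]; exact (ho ω).1
    · rw [Finset.mem_singleton.1 e, CharCore.classInner_neg_left, (ho ω).2, neg_zero]
  · obtain ⟨x, c, e | e⟩ := mem_colR hα
    · rw [e, CharCore.classInner_smul_left, E.orth _ _ (hω j hj hj1 (Or.inl e1) x.1 x.2).symm,
        mul_zero]
    · rw [e, CharCore.classInner_smul_left, E.orth _ _ (hω k hk hk1 (Or.inr e2) x.1 x.2).symm,
        mul_zero]

theorem exists_rspec (hodd : Odd (Nat.card L)) {φ : L → ℂ} (hφ : φ ∈ indAbove K H) :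
    ∃ r, RSpec K χ η φ r ∧
      (∀ α ∈ r, ∀ β ∈ r, classInner α β = if α = β then 1 else 0) ∧
      (∀ α ∈ r, IsGeneralizedCharacter G α) ∧
      dadeIsometry A₀ L R (φ - conjFun φ) = ∑ α ∈ r, α := by
  rcases P.mem_cases F hφ with ⟨j, hj, hj1, rfl⟩ | hirr
  · obtain ⟨k, hk, hk1, hjk, e⟩ := P.mu_conj F hj hj1 hodd
    have hs := sgn_sq χ j
    refine ⟨colR η (sgn χ j) j k, Or.inr ⟨j, hj, k, hk, hj1, hk1, hjk, rfl, e, rfl⟩,
      colR_orthonormal E hj hk hjk hs, colR_virtual E hs, ?_⟩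
    rw [colR_sum E hj hk hjk hs, e]
    refine P.tau_mu_sub F E hj hk hj1 hk1 ?_
    rw [← e]
    exact (Coherence.conjFun_one_of_char (P.mem_isCharacter hφ)).symm
  · obtain ⟨μ, hμ, hτ⟩ := S1518.result A₀ L R P.dade φ hirr fun x hx hxA => P.mem_supp hφ hx hxA
    have hmem : φ - conjFun φ ∈ zspanOn (indAbove K H) ({1}ᶜ : Set L) :=
      Coherence.mem_zspanOn_one.2 ⟨Coherence.zspan_sub (Coherence.zspan_subset hφ)
        (Coherence.zspan_subset (indAbove_conj hφ)), by
          simp [Coherence.conjFun_one_of_char (P.mem_isCharacter hφ)]⟩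
    have hμc : IsIrrCharacter G (conjFun μ) := CharCore.isIrrCharacter_star hμ
    have hne : conjFun μ ≠ μ := by
      intro e
      have h2 := P.dade_facts.1.2.2.1 _ hmem _ hmem
      rw [hτ, e, sub_self, Coherence.inner_zero_left] at h2
      exact P.mem_conj_ne F hodd hφ (sub_eq_zero.1 (Coherence.inner_self_eq_zero.1 h2.symm)).symm
    have hne' : μ ≠ -conjFun μ := by
      intro e
      have h1 := Coherence.conjFun_one_of_char (Coherence.irr_isCharacter hμ)
      have h2 : μ 1 = 0 := by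
        have := congrFun e 1
        rw [Pi.neg_apply, h1] at this
        linear_combination this / 2
      exact Coherence.irr_one_ne_zero hμ h2
    have ho : classInner μ (conjFun μ) = 0 := Coherence.irr_inner_ne hμ hμc hne.symm
    have ho' : classInner (conjFun μ) μ = 0 := Coherence.irr_inner_ne hμc hμ hne
    refine ⟨{μ, -conjFun μ}, Or.inl ⟨μ, hμ, hirr, hne, rfl,
      fun ω => E.irr_orth P hμ hne hmem hτ ω⟩, ?_, ?_, ?_⟩
    · intro α hα β hβ
      simp only [Finset.mem_insert, Finset.mem_singleton] at hα hβ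
      rcases hα with rfl | rfl <;> rcases hβ with rfl | rfl <;>
        simp [CharCore.classInner_neg_left, CharCore.classInner_neg_right,
          Coherence.irr_inner_self hμ, Coherence.irr_inner_self hμc, ho, ho', hne', hne'.symm]
    · intro α hα
      simp only [Finset.mem_insert, Finset.mem_singleton] at hα
      rcases hα with rfl | rfl
      · exact Coherence.irr_gen hμ
      · exact Coherence.gen_neg (Coherence.irr_gen hμc)
    · rw [hτ, Finset.sum_pair hne', sub_eq_add_neg]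

/-- (5.7): the coherence system on the functions induced from `K`. -/
theorem PrimeDade.exists_system (hodd : Odd (Nat.card L)) :
    ∃ Rs, IsCoherenceSystem (indAbove K H) (dadeIsometry A₀ L R) Rs ∧
      ∀ φ ∈ indAbove K H, RSpec K χ η φ (Rs φ) := by
  have hex : ∀ φ, ∃ r, φ ∈ indAbove K H → RSpec K χ η φ r ∧
      (∀ α ∈ r, ∀ β ∈ r, classInner α β = if α = β then 1 else 0) ∧
      (∀ α ∈ r, IsGeneralizedCharacter G α) ∧
      dadeIsometry A₀ L R (φ - conjFun φ) = ∑ α ∈ r, α := by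
    intro φ
    by_cases h : φ ∈ indAbove K H
    · exact (exists_rspec E P F hodd h).imp fun r hr _ => hr
    · exact ⟨∅, fun h' => absurd h' h⟩
  choose Rs hRs using hex
  have hn : (indAbove K H).Nonempty := by
    obtain ⟨j, hj1⟩ : ∃ j : ↥(D2 W₁ W₂), j ≠ 1 := by
      haveI := P.pti.split.finite_dual
      haveI : Nontrivial ↥(D2 W₁ W₂) := by
        rw [← Finite.one_lt_card_iff_nontrivial, P.pti.split.card_d2]
        exact (Subgroup.one_lt_card_iff_ne_bot W₂).2 P.pti.ne₂
      exact exists_ne 1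
    exact ⟨_, P.mu_mem F j.2 fun e => hj1 (Subtype.ext e)⟩
  refine ⟨Rs, ⟨hn, fun φ h => P.mem_isCharacter h, fun φ h => indAbove_conj h,
    fun φ h => P.mem_conj_ne F hodd h, P.dade_facts.1, P.dade_facts.2.1, ?_,
    fun φ h α ha β hb => ?_, fun φ h => (hRs φ h).2.2.1, fun φ h => (hRs φ h).2.2.2, ?_⟩,
    fun φ h => (hRs φ h).1⟩
  · intro φ hφ ψ hψ hne
    have := P.pti.normal
    haveI : Fintype K := Fintype.ofFinite _
    obtain ⟨θ, hθ, -, rfl⟩ := hφ
    obtain ⟨θ', hθ', -, rfl⟩ := hψ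
    rw [classInner_indFun_normal, Finset.sum_eq_zero, mul_zero]
    intro g _
    refine Coherence.irr_inner_ne hθ (conjBy_isIrr K g hθ') fun e => hne ?_
    exact (Coherence.ind_eq_iff K ⟨θ, hθ⟩ ⟨θ', hθ'⟩).2 ⟨g, Subtype.ext e⟩
  · exact (hRs φ h).2.1 α ha β hb
  intro ψ hψ φ hφ h1 h2 α hα β hβ
  have hne1 : φ ≠ ψ := by
    intro e
    subst e
    exact Coherence.char_one_ne_zero (P.mem_isCharacter hφ)
      (fun e0 => P.mem_conj_ne F hodd hφ (by rw [e0]; funext x; simp [conjFun]))
      (by rw [Coherence.inner_self_eq_zero.1 h1]; rfl)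
  have hne2 : φ ≠ conjFun ψ := by
    intro e
    rw [← e] at h2
    exact Coherence.char_one_ne_zero (P.mem_isCharacter hφ)
      (fun e0 => P.mem_conj_ne F hodd hφ (by rw [e0]; funext x; simp [conjFun]))
      (by rw [Coherence.inner_self_eq_zero.1 h2]; rfl)
  rcases (hRs ψ hψ).1 with ⟨ν, hν, hirrψ, hνc, eψ, hoψ⟩ |
      ⟨j, hj, k, hk, hj1, hk1, hjk, e1, e2, eψ⟩
  · rcases (hRs φ hφ).1 with ⟨μ, hμ, hirrφ, hμc, eφ, hoφ⟩ |
        ⟨l, hl, m, hm, -, -, -, -, -, eφ⟩
    · have hm1 : ∀ θ ∈ indAbove K H, θ - conjFun θ ∈ zspanOn (indAbove K H) ({1}ᶜ : Set L) :=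
        fun θ h => Coherence.mem_zspanOn_one.2 ⟨Coherence.zspan_sub (Coherence.zspan_subset h)
          (Coherence.zspan_subset (indAbove_conj h)), by
            simp [Coherence.conjFun_one_of_char (P.mem_isCharacter h)]⟩
      have hsum : ∀ θ μ, IsIrrCharacter G μ → θ ∈ indAbove K H → Rs θ = {μ, -conjFun μ} →
          dadeIsometry A₀ L R (θ - conjFun θ) = μ - conjFun μ := by
        intro θ μ hμ' h he
        rw [(hRs θ h).2.2.2, he, Finset.sum_pair, sub_eq_add_neg]
        intro e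
        have hh := Coherence.conjFun_one_of_char (Coherence.irr_isCharacter hμ')
        have hz := congrFun e 1
        rw [Pi.neg_apply, hh] at hz
        exact Coherence.irr_one_ne_zero hμ' (by linear_combination hz / 2)
      have hmix : classInner (μ - conjFun μ) (((1 : ℝ) : ℂ) • ν - ((1 : ℝ) : ℂ) • conjFun ν) = 0 := by
        rw [Complex.ofReal_one, one_smul, one_smul, ← hsum φ μ hμ hφ eφ, ← hsum ψ ν hν hψ eψ,
          P.dade_facts.1.2.2.1 _ (hm1 φ hφ) _ (hm1 ψ hψ), Coherence.inner_sub_left,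
          Coherence.inner_sub_right, Coherence.inner_sub_right, h1, h2]
        have c1 : classInner (conjFun φ) ψ = 0 := by
          refine Coherence.irr_inner_ne (CharCore.isIrrCharacter_star hirrφ) hirrψ fun e => hne2 ?_
          rw [← e]; funext x; simp [conjFun]
        have c2 : classInner (conjFun φ) (conjFun ψ) = 0 := by
          refine Coherence.irr_inner_ne (CharCore.isIrrCharacter_star hirrφ)
            (CharCore.isIrrCharacter_star hirrψ) fun e => hne1 ?_
          funext x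
          have := congrArg conj (congrFun e x)
          simpa [conjFun] using this
        rw [c1, c2]; simp
      obtain ⟨q1, q2, q3, q4⟩ := S1509.result μ (conjFun μ) ν (conjFun ν) (Or.inl hμ)
        (Or.inl (CharCore.isIrrCharacter_star hμ)) (Or.inl hν)
        (Or.inl (CharCore.isIrrCharacter_star hν)) 1 1 one_ne_zero one_ne_zero
        (Coherence.irr_inner_ne hμ (CharCore.isIrrCharacter_star hμ) hμc.symm)
        (Coherence.irr_inner_ne hν (CharCore.isIrrCharacter_star hν) hνc.symm) hmix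
        (Coherence.conjFun_one_of_char (Coherence.irr_isCharacter hμ)).symm
        (by rw [Coherence.conjFun_one_of_char (Coherence.irr_isCharacter hν)])
      rw [eφ] at hα
      rw [eψ] at hβ
      simp only [Finset.mem_insert, Finset.mem_singleton] at hα hβ
      rcases hα with rfl | rfl <;> rcases hβ with rfl | rfl <;>
        simp [CharCore.classInner_neg_left, CharCore.classInner_neg_right, q1, q2, q3, q4]
    · rw [eφ] at hα
      rw [eψ] at hβ
      have hz : ∀ ω, classInner (η ω) β = 0 := by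
        intro ω
        simp only [Finset.mem_insert, Finset.mem_singleton] at hβ
        rw [← CharCore.conj_classInner]
        rcases hβ with rfl | rfl
        · rw [(hoψ ω).1, map_zero]
        · rw [CharCore.classInner_neg_left, (hoψ ω).2, neg_zero, map_zero]
      obtain ⟨x, c, e | e⟩ := mem_colR hα <;>
        rw [e, CharCore.classInner_smul_left, hz, mul_zero]
  · rw [eψ] at hβ
    obtain ⟨x, c, e | e⟩ := mem_colR hβ
    · rw [e, CharCore.classInner_smul_right,
        (hRs φ hφ).1.inner_eta E P F _ (fun l hl _ hor y hy q => ?_) hα, mul_zero]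
      have hl' : j = l := (mul_inj W₁ W₂ x.2 hy hj hl q).2
      subst hl'
      rcases hor with h | h
      · exact hne1 (h.trans e1.symm)
      · exact hne2 (by rw [← e1] at h; rw [← h]; funext z; simp [conjFun])
    · rw [e, CharCore.classInner_smul_right,
        (hRs φ hφ).1.inner_eta E P F _ (fun l hl _ hor y hy q => ?_) hα, mul_zero]
      have hl' : k = l := (mul_inj W₁ W₂ x.2 hy hk hl q).2
      subst hl'
      rcases hor with h | h
      · exact hne2 (h.trans e2.symm)
      · refine hne1 ?_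
        have h' := h.trans e2.symm
        funext z
        have := congrArg conj (congrFun h' z)
        simpa [conjFun] using this

end Cfsg.Agent.PF
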