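import Cfsg.Agent.PF.PrimeCoherent

/-!
Peterfalvi (5.8) and (4.9): a coherent extension sends `μ_j` to a signed column.
-/

set_option autoImplicit false

namespace Cfsg.Agent.PF

open Cfsg OddChar OddChar.CycTI OddChar.PrimeTI
open scoped ComplexConjugate Classical

variable {G : Type*} [Group G] [Fintype G]
variable {A A₀ : Set G} {L : Subgroup G} [Fintype L] {R : G → Subgroup G}
variable {K H W₁ W₂ : Subgroup L} [Fintype ↥(D1 W₁ W₂)]
variable {η : (↥(W₁ ⊔ W₂) →* ℂˣ) → G → ℂ}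
variable {χ : (↥(W₁ ⊔ W₂) →* ℂˣ) → (L → ℂ)}
variable {S S₁ : Set (L → ℂ)} {τ τ₁ : (L → ℂ) → (G → ℂ)} {Rs : (L → ℂ) → Finset (G → ℂ)}

omit [Fintype ↥(D1 W₁ W₂)] in
/-- A coherent extension maps a member into the span of its set. -/
theorem coherent_eq_proj (hS : IsCoherenceSystem S τ Rs) (hS₁ : S₁ ⊆ S)
    (hS₁c : ∀ φ ∈ S₁, conjFun φ ∈ S₁) (hτ₁ : IsLinearIsometryOn (zspan S₁) τ₁)
    (hag : ∀ α ∈ zspanOn S₁ {1}ᶜ, τ₁ α = τ α) {φ : L → ℂ} (hφ : φ ∈ S₁) :
    τ₁ φ = Coherence.proj (Rs φ) (τ₁ φ) := by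
  have hmem : φ - conjFun φ ∈ zspanOn S₁ ({1}ᶜ : Set L) :=
    Coherence.mem_zspanOn_one.2 ⟨Coherence.zspan_sub (Coherence.zspan_subset hφ)
      (Coherence.zspan_subset (hS₁c φ hφ)), by simp [Coherence.sys_conj_one hS (hS₁ hφ)]⟩
  refine Coherence.eq_proj_of_system hS (hS₁ hφ) (hτ₁.2.2.2 _ (Coherence.zspan_subset hφ))
    (hτ₁.2.2.1 _ (Coherence.zspan_subset hφ) _ (Coherence.zspan_subset hφ)) ?_
  rw [← hS.sum_eq φ (hS₁ hφ), ← hag _ hmem,
    hτ₁.2.2.1 _ (Coherence.zspan_subset hφ) _ hmem.1, Coherence.inner_sub_right,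
    Coherence.sys_orth_conj hS (hS₁ hφ), sub_zero]

variable (E : Eta L W₁ W₂ η) (P : PrimeDade A A₀ L R K H W₁ W₂) (F : Fam P.pti χ)

include E P F

theorem RSpec.of_mu {j k : ↥(W₁ ⊔ W₂) →* ℂˣ} (hj : j ∈ D2 W₁ W₂) (hk : k ∈ D2 W₁ W₂)
    (hconj : conjFun (mu K χ j) = mu K χ k) {r : Finset (G → ℂ)}
    (h : RSpec K χ η (mu K χ j) r) : j ≠ k ∧ r = colR η (sgn χ j) j k := by
  rcases h with ⟨μ, -, hirr, -⟩ | ⟨l, hl, m, hm, -, -, hlm, e1, e2, rfl⟩
  · exact absurd hirr (P.mu_not_irr F hj)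
  · obtain rfl := P.mu_inj F hj hl e1
    obtain rfl := P.mu_inj F hk hm (hconj.symm.trans e2)
    exact ⟨hlm, rfl⟩

/-- Irreducible members go to combinations orthogonal to every `η`. -/
theorem PrimeDade.coherent_irr_orth (hodd : Odd (Nat.card L)) (hS₁ : S₁ ⊆ indAbove K H)
    (hS₁c : ∀ φ ∈ S₁, conjFun φ ∈ S₁) (hτ₁ : IsLinearIsometryOn (zspan S₁) τ₁)
    (hag : ∀ α ∈ zspanOn S₁ {1}ᶜ, τ₁ α = dadeIsometry A₀ L R α) {φ : L → ℂ} (hφ : φ ∈ S₁)
    (hirr : IsIrrCharacter L φ) (ω : ↥(W₁ ⊔ W₂) →* ℂˣ) : classInner (τ₁ φ) (η ω) = 0 := by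
  obtain ⟨Rs, hS, hspec⟩ := P.exists_system E F hodd
  rw [coherent_eq_proj hS hS₁ hS₁c hτ₁ hag hφ]
  refine Coherence.inner_proj_of_orth fun α hα => ?_
  rcases hspec φ (hS₁ hφ) with ⟨μ, -, -, -, e, ho⟩ | ⟨j, hj, -, -, -, -, -, e1, -⟩
  · rw [e, Finset.mem_insert, Finset.mem_singleton] at hα
    rcases hα with e' | e'
    · rw [e']; exact (ho ω).1
    · rw [e', CharCore.classInner_neg_left, (ho ω).2, neg_zero]
  · exact absurd (e1 ▸ hirr) (P.mu_not_irr F hj)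

/-- (5.8): in the presence of a further member, `μ_j` goes to a signed column. -/
theorem PrimeDade.coherent_col (hodd : Odd (Nat.card L)) (hS₁ : S₁ ⊆ indAbove K H)
    (hS₁c : ∀ φ ∈ S₁, conjFun φ ∈ S₁) (hτ₁ : IsLinearIsometryOn (zspan S₁) τ₁)
    (hag : ∀ α ∈ zspanOn S₁ {1}ᶜ, τ₁ α = dadeIsometry A₀ L R α)
    {j k : ↥(W₁ ⊔ W₂) →* ℂˣ} (hj : j ∈ D2 W₁ W₂) (hj1 : j ≠ 1) (hk : k ∈ D2 W₁ W₂)
    (hconj : conjFun (mu K χ j) = mu K χ k) (hjS : mu K χ j ∈ S₁)
    {φ : L → ℂ} (hφ : φ ∈ S₁) (hne : φ ≠ mu K χ j) (hne' : φ ≠ mu K χ k) :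
    τ₁ (mu K χ j) = sgn χ j • col η j ∨ τ₁ (mu K χ j) = -(sgn χ j • col η k) := by
  obtain ⟨Rs, hS, hspec⟩ := P.exists_system E F hodd
  obtain ⟨hjk, hR⟩ := RSpec.of_mu E P F hj hk hconj (hspec _ (hS₁ hjS))
  have hk1 : k ≠ 1 := by
    intro e
    rcases hspec _ (hS₁ hjS) with ⟨μ, -, hirr, -⟩ | ⟨l, hl, m, hm, -, hm1, -, e1, e2, -⟩
    · exact P.mu_not_irr F hj hirr
    · exact hm1 ((P.mu_inj F hk hm (hconj.symm.trans e2)).symm.trans e)
  set s := sgn χ j with hsdef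
  have hss : s * s = 1 := sgn_mul_self χ j
  have hsc : conj s = s := sgn_conj χ j
  set ξ := τ₁ (mu K χ j) with hξ
  set c := fun ω => classInner ξ (η ω) with hc
  have hexp : ξ = (∑ x : ↥(D1 W₁ W₂), c (x.1 * j) • η (x.1 * j)) +
      ∑ x : ↥(D1 W₁ W₂), c (x.1 * k) • η (x.1 * k) := by
    conv_lhs => rw [hξ, coherent_eq_proj hS hS₁ hS₁c hτ₁ hag hjS, ← hξ, hR, Coherence.proj, colR,
      Finset.sum_image (fun a _ b _ e => colFam_injective E hj hk hjk (sgn_sq χ j) e),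
      Fintype.sum_sum_type]
    simp only [colFam, Sum.elim_inl, Sum.elim_inr, CharCore.classInner_neg_right,
      CharCore.classInner_smul_right, smul_neg, ← neg_smul, neg_mul, neg_neg, smul_smul, ← hsdef, hsc, hc]
    congr 1 <;> refine Finset.sum_congr rfl fun x _ => ?_ <;>
      simp only [map_neg, hsc, neg_mul_neg, neg_mul, mul_neg, neg_neg, mul_right_comm _ (classInner _ _) _, hss,
        one_mul]
  have other : ∀ (x : ↥(D1 W₁ W₂)) (l : ↥(W₁ ⊔ W₂) →* ℂˣ), l ∈ D2 W₁ W₂ →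
      (l = 1 ∨ l = j ∨ l = k) → classInner (τ₁ φ) (η (x.1 * l)) = 0 := by
    intro x l hl hor
    rw [coherent_eq_proj hS hS₁ hS₁c hτ₁ hag hφ]
    refine Coherence.inner_proj_of_orth fun α hα => ?_
    refine (hspec φ (hS₁ hφ)).inner_eta E P F _ (fun m hm hm1 hφm y hy q => ?_) hα
    have hlm : l = m := (mul_inj W₁ W₂ x.2 hy hl hm q).2
    rcases hor with e | e | e
    · exact hm1 (hlm.symm.trans e)
    · rw [← hlm, e] at hφm
      rcases hφm with h | h
      · exact hne h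
      · exact hne' (by rw [← hconj, ← h]; funext z; simp [conjFun])
    · rw [← hlm, e] at hφm
      rcases hφm with h | h
      · exact hne' h
      · rw [← hconj] at h
        refine hne ?_
        funext z
        simpa [conjFun] using congrArg conj (congrFun h z)
  have col1 : ∀ x : ↥(D1 W₁ W₂), c x.1 = 0 := by
    intro x
    simp only [hc, hξ]
    rw [coherent_eq_proj hS hS₁ hS₁c hτ₁ hag hjS]
    refine Coherence.inner_proj_of_orth fun α hα => ?_
    refine (hspec _ (hS₁ hjS)).inner_eta E P F _ (fun m hm hm1 _ y hy q => hm1 ?_) hα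
    exact ((mul_inj W₁ W₂ x.2 hy (one_mem _) hm (by rw [mul_one, q])).2).symm
  obtain ⟨d, hd, -⟩ := Coherence.char_one_nat (hS.isCharacter φ (hS₁ hφ))
  obtain ⟨d', hd', -⟩ := Coherence.char_one_nat (hS.isCharacter _ (hS₁ hjS))
  have hd0 : (d : ℂ) ≠ 0 := hd ▸ Coherence.char_one_ne_zero (hS.isCharacter φ (hS₁ hφ))
    (Coherence.sys_ne_zero hS (hS₁ hφ))
  set α := (d : ℤ) • mu K χ j - (d' : ℤ) • φ with hαdef
  have hz1 : (d : ℤ) • mu K χ j ∈ zspan S₁ :=
    Coherence.zspan_zsmul _ (Coherence.zspan_subset hjS)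
  have hz2 : (d' : ℤ) • φ ∈ zspan S₁ := Coherence.zspan_zsmul _ (Coherence.zspan_subset hφ)
  have hα : α ∈ zspanOn S₁ ({1}ᶜ : Set L) :=
    Coherence.mem_zspanOn_one.2 ⟨Coherence.zspan_sub hz1 hz2, by
      simp [hαdef, hd, hd']; ring⟩
  have hg : ∀ ω, classInner (dadeIsometry A₀ L R α) (η ω) =
      (d : ℂ) * c ω - (d' : ℂ) * classInner (τ₁ φ) (η ω) := by
    intro ω
    rw [← hag α hα, hαdef, Coherence.iso_map_sub hτ₁ hz1 hz2
      (Coherence.zspan_neg hz2), hτ₁.2.1 _ (Coherence.zspan_subset hjS),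
      hτ₁.2.1 _ (Coherence.zspan_subset hφ), Coherence.inner_sub_left,
      Coherence.inner_zsmul_left, Coherence.inner_zsmul_left]
    simp [hc, hξ]
  have hconst : ∀ (x : ↥(D1 W₁ W₂)) (l : ↥(W₁ ⊔ W₂) →* ℂˣ), l ∈ D2 W₁ W₂ →
      (l = j ∨ l = k) → c (x.1 * l) = c l := by
    intro x l hl hor
    have h := P.tau_additive E (Coherence.zspanOn_mono hS₁ _ hα) x.2 hl
    rw [hg, hg, hg, hg] at h
    have o1 := other x l hl (Or.inr hor)
    have o2 := other 1 l hl (Or.inr hor)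
    have o3 : classInner (τ₁ φ) (η x.1) = 0 := by
      have o := other x 1 (one_mem _) (Or.inl rfl)
      rwa [show x.1 * 1 = x.1 from MonoidHom.ext fun v => mul_one _] at o
    have o4 : classInner (τ₁ φ) (η 1) = 0 := by
      have o := other 1 1 (one_mem _) (Or.inl rfl)
      simpa using o
    simp only [OneMemClass.coe_one, one_mul] at o2
    have e1 := col1 x
    have e2 := col1 1
    simp only [OneMemClass.coe_one] at e2
    rw [o1, o2, o3, o4, e1, e2] at h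
    refine mul_left_cancel₀ hd0 ?_
    linear_combination h
  have hform : ξ = c j • col η j + c k • col η k := by
    rw [hexp, col, col, Finset.smul_sum, Finset.smul_sum]
    congr 1 <;> refine Finset.sum_congr rfl fun x _ => ?_
    · rw [hconst x j hj (Or.inl rfl)]
    · rw [hconst x k hk (Or.inr rfl)]
  obtain ⟨a, ha⟩ := Coherence.inner_gen_int (hτ₁.2.2.2 _ (Coherence.zspan_subset hjS))
    (E.signed j).isGeneralizedCharacter
  obtain ⟨b, hb⟩ := Coherence.inner_gen_int (hτ₁.2.2.2 _ (Coherence.zspan_subset hjS))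
    (E.signed k).isGeneralizedCharacter
  change c j = _ at ha
  change c k = _ at hb
  rw [ha, hb] at hform
  have hw : (Nat.card W₁ : ℂ) ≠ 0 := Nat.cast_ne_zero.2 Nat.card_pos.ne'
  have horthη : ∀ a b, classInner (η a) (η b) =
      @ite ℂ (a = b) (Classical.propDecidable _) 1 0 := fun a b => by
    convert E.orthonormal a b
  have hjj := inner_col P.pti.split horthη hj hj
  have hkk := inner_col P.pti.split horthη hk hk
  have hjk' := inner_col P.pti.split horthη hj hk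
  have hkj' := inner_col P.pti.split horthη hk hj
  rw [if_pos rfl] at hjj hkk
  rw [if_neg hjk] at hjk'
  rw [if_neg hjk.symm] at hkj'
  have hnorm : (a : ℂ) * a + (b : ℂ) * b = 1 := by
    refine mul_right_cancel₀ hw ?_
    have h := (hτ₁.2.2.1 _ (Coherence.zspan_subset hjS) _ (Coherence.zspan_subset hjS)).trans
      (P.mu_norm F hj)
    rw [← hξ, hform] at h
    simp only [Coherence.inner_add_left, Coherence.inner_add_right, CharCore.classInner_smul_left,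
      CharCore.classInner_smul_right, hjj, hkk, hjk', hkj', map_intCast] at h
    linear_combination h
  have hm : mu K χ j - mu K χ k ∈ zspanOn S₁ ({1}ᶜ : Set L) :=
    Coherence.mem_zspanOn_one.2 ⟨Coherence.zspan_sub (Coherence.zspan_subset hjS)
      (Coherence.zspan_subset (hconj ▸ hS₁c _ hjS)), by
        simp [← hconj, Coherence.sys_conj_one hS (hS₁ hjS)]⟩
  have hdiff : s * ((a : ℂ) - b) = 1 := by
    refine mul_right_cancel₀ hw ?_
    have h := hτ₁.2.2.1 _ (Coherence.zspan_subset hjS) _ hm.1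
    rw [hag _ hm, P.tau_mu_sub F E hj hk hj1 hk1
      (by rw [← hconj]; exact (Coherence.sys_conj_one hS (hS₁ hjS)).symm), ← hξ, ← hsdef, hform,
      Coherence.inner_sub_right, P.mu_norm F hj] at h
    rw [show classInner (mu K χ j) (mu K χ k) = 0 by
      rw [← hconj]; exact Coherence.sys_orth_conj hS (hS₁ hjS)] at h
    simp only [Coherence.inner_add_left, Coherence.inner_sub_right, CharCore.classInner_smul_left,
      CharCore.classInner_smul_right, hjj, hkk, hjk', hkj', map_intCast, hsc] at h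
    linear_combination h
  have hzz : a * a + b * b = 1 := by exact_mod_cast hnorm
  rw [hform]
  have hab : a = 0 ∨ b = 0 := by
    by_contra h
    push Not at h
    have h1 := mul_self_pos.2 h.1
    have h2 := mul_self_pos.2 h.2
    omega
  rcases hab with e | e <;> subst e
  · refine Or.inr ?_
    have e' : (b : ℂ) = -s := by
      simp only [Int.cast_zero, zero_sub] at hdiff
      linear_combination (-(b : ℂ)) * hss - s * hdiff
    rw [e', Int.cast_zero, zero_smul, zero_add, neg_smul]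
  · refine Or.inl ?_
    have e' : (a : ℂ) = s := by
      simp only [Int.cast_zero, sub_zero] at hdiff
      linear_combination (-(a : ℂ)) * hss + s * hdiff
    rw [e', Int.cast_zero, zero_smul, add_zero]

/-- Members of the same degree as `μ_j` go to columns with the same sign. -/
theorem PrimeDade.coherent_col_congr (hτ₁ : IsLinearIsometryOn (zspan S₁) τ₁)
    (hag : ∀ α ∈ zspanOn S₁ {1}ᶜ, τ₁ α = dadeIsometry A₀ L R α)
    {j l : ↥(W₁ ⊔ W₂) →* ℂˣ} (hj : j ∈ D2 W₁ W₂) (hj1 : j ≠ 1) (hl : l ∈ D2 W₁ W₂) (hl1 : l ≠ 1)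
    (hjS : mu K χ j ∈ S₁) (hlS : mu K χ l ∈ S₁) (hdeg : mu K χ j 1 = mu K χ l 1) :
    τ₁ (mu K χ l) - sgn χ l • col η l = τ₁ (mu K χ j) - sgn χ j • col η j := by
  have hm : mu K χ j - mu K χ l ∈ zspanOn S₁ ({1}ᶜ : Set L) :=
    Coherence.mem_zspanOn_one.2 ⟨Coherence.zspan_sub (Coherence.zspan_subset hjS)
      (Coherence.zspan_subset hlS), by simp [hdeg]⟩
  have h := hag _ hm
  rw [Coherence.iso_map_sub hτ₁ (Coherence.zspan_subset hjS) (Coherence.zspan_subset hlS)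
    (Coherence.zspan_neg (Coherence.zspan_subset hlS)),
    P.tau_mu_sub F E hj hl hj1 hl1 hdeg] at h
  rw [← (P.deg_eq F hdeg).2]
  funext g
  have h' := congrFun h g
  simp only [Pi.sub_apply, Pi.smul_apply, smul_eq_mul] at h' ⊢
  linear_combination -h'

/-- (4.9): the `μ_l` of a given degree form a coherent set. -/
theorem PrimeDade.coherent_mu (hodd : Odd (Nat.card L)) {j : ↥(W₁ ⊔ W₂) →* ℂˣ}
    (hj : j ∈ D2 W₁ W₂) (hj1 : j ≠ 1) :
    IsCoherent {φ : L → ℂ | ∃ l ∈ D2 W₁ W₂, l ≠ 1 ∧ φ = mu K χ l ∧ φ 1 = mu K χ j 1} {1}ᶜ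
      (dadeIsometry A₀ L R) := by
  obtain ⟨Rs, hS, -⟩ := P.exists_system E F hodd
  refine S1517.result _ _ Rs (Coherence.sys_subset hS ?_ ?_ ?_) ?_
  · rintro φ ⟨l, hl, hl1, rfl, -⟩
    exact P.mu_mem F hl hl1
  · exact ⟨_, j, hj, hj1, rfl, rfl⟩
  · rintro φ ⟨l, hl, hl1, rfl, e⟩
    obtain ⟨k, hk, hk1, -, hc⟩ := P.mu_conj F hl hl1 hodd
    exact ⟨k, hk, hk1, hc, by rw [Coherence.sys_conj_one hS (P.mu_mem F hl hl1), e]⟩
  · rintro φ ⟨-, -, -, -, e⟩ ψ ⟨-, -, -, -, e'⟩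
    exact e.trans e'.symm

end Cfsg.Agent.PF
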