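import Cfsg.Agent.Lib.Frobenius.Complement
import Cfsg.Agent.FPFStructure.Struct

/-!
In a fixed-point-free group of odd order every subgroup of prime order is normal.
-/

set_option autoImplicit false

namespace Cfsg.Agent.PF14

open Subgroup
open scoped commutatorElement

/-- In a fixed-point-free group of odd order every subgroup of prime order is normal. -/
theorem le_normalizer_of_prime_order {G : Type*} [Group G] [Finite G] {E H W : Subgroup G}
    (h : Frobenius.IsFPF E H) (hH : H ≠ ⊥) (hodd : Odd (Nat.card E)) (hWE : W ≤ E)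
    (hW : (Nat.card W).Prime) : E ≤ normalizer (W : Set G) := by
  classical
  haveI : IsZGroup E := (isZGroup_iff E).2 fun p hp S => by
    haveI := Fact.mk hp
    rcases h.sylow_isCyclic_or_quaternion hH S with hc | ⟨h2, n, ⟨e⟩⟩
    · exact hc
    · subst h2
      exfalso
      have h1 : 2 ∣ Nat.card (S : Subgroup E) := by
        rw [Nat.card_congr e.toEquiv, Nat.card_eq_fintype_card, QuaternionGroup.card]
        exact dvd_mul_of_dvd_left (by norm_num) _
      have h2 : 2 ∣ Nat.card E := h1.trans (card_subgroup_dvd_card _)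
      exact (Nat.not_even_iff_odd.2 hodd) (even_iff_two_dvd.2 h2)
  have hcop : (Nat.card (commutator E)).Coprime (commutator E).index :=
    IsZGroup.coprime_commutator_index E
  haveI : IsCyclic (commutator E) := IsZGroup.isCyclic_commutator E
  set N : Subgroup G := (commutator E).map E.subtype with hN
  have hNE : N ≤ E := map_subtype_le _
  have hNcard : Nat.card N = Nat.card (commutator E) :=
    (Nat.card_congr ((commutator E).equivMapOfInjective E.subtype E.subtype_injective).toEquiv).symm
  haveI : IsCyclic N := isCyclic_of_surjective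
    ((commutator E).equivMapOfInjective E.subtype E.subtype_injective).toMonoidHom
    (MulEquiv.surjective _)
  have hEN : E ≤ normalizer (N : Set G) := fun x hx =>
    (commutator E).le_normalizer_map E.subtype
      ⟨⟨x, hx⟩, by rw [normalizer_eq_top]; trivial, rfl⟩
  obtain ⟨w, hw⟩ := (isCyclic_of_prime_card (α := W) (hp := ⟨hW⟩) rfl).exists_ofOrder_eq_natCard
  rw [← orderOf_coe] at hw
  have hWz : zpowers (w : G) = W :=
    eq_of_le_of_card_ge (zpowers_le.2 w.2) (by rw [Nat.card_zpowers, hw])
  have hwE : (w : G) ∈ E := hWE w.2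
  have hcomm : ∀ g ∈ E, g * w * g⁻¹ * (w : G)⁻¹ ∈ N := fun g hg =>
    ⟨⁅(⟨g, hg⟩ : E), ⟨w, hwE⟩⁆, commutator_mem_commutator (mem_top _) (mem_top _), rfl⟩
  by_cases hd : Nat.card W ∣ Nat.card N
  · -- then `W` is the subgroup of that order of a cyclic normal subgroup
    have hwN : (w : G) ∈ N := by
      refine ⟨⟨w, hwE⟩, ?_, rfl⟩
      have hndvd : ¬ Nat.card W ∣ (commutator E).index := fun h' =>
        hW.one_lt.ne' (Nat.eq_one_of_dvd_coprimes hcop (hNcard ▸ hd) h')
      have h1 := (commutator E).pow_index_mem (⟨w, hwE⟩ : E)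
      have h2 : (⟨w, hwE⟩ : E) ^ Nat.card W = 1 := by
        rw [← hw]; exact Subtype.ext (pow_orderOf_eq_one (w : G))
      have hg : Nat.gcd (commutator E).index (Nat.card W) = 1 :=
        Nat.coprime_comm.1 (hW.coprime_iff_not_dvd.2 hndvd)
      obtain ⟨a, b, hab⟩ : ∃ a b : ℤ, (commutator E).index * a + Nat.card W * b = 1 :=
        ⟨_, _, by rw [← Nat.gcd_eq_gcd_ab, hg]; rfl⟩
      have h3 : (⟨w, hwE⟩ : E) =
          ((⟨w, hwE⟩ : E) ^ (commutator E).index) ^ a * ((⟨w, hwE⟩ : E) ^ Nat.card W) ^ b := by
        rw [← zpow_natCast, ← zpow_natCast, ← zpow_mul, ← zpow_mul, ← zpow_add, hab, zpow_one]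
      rw [h3, h2, one_zpow, mul_one]
      exact zpow_mem h1 a
    have hWN : W ≤ N := hWz ▸ zpowers_le.2 hwN
    intro g hg
    rw [mem_normalizer_iff_map_conj_eq]
    set X := W.map (MulAut.conj g).toMonoidHom
    have hXN : X ≤ N := by
      rintro _ ⟨x, hx, rfl⟩
      exact (mem_normalizer_iff.1 (hEN hg) x).1 (hWN hx)
    have hXc : Nat.card X = Nat.card W := card_map_of_injective (MulAut.conj g).injective
    -- a cyclic group has one subgroup of each order
    exact eq_of_le_of_card_ge (fun x hx => by
      haveI := Fintype.ofFinite N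
      have hfin := IsCyclic.card_pow_eq_one_le (α := N) hW.pos
      by_contra hxW
      let s : Finset N := insert ⟨x, hXN hx⟩ ((Finset.univ.filter fun a : N => (a : G) ∈ W))
      have hs : s ⊆ Finset.univ.filter fun a : N => a ^ Nat.card W = 1 := by
        intro a ha
        rw [Finset.mem_filter]
        refine ⟨Finset.mem_univ _, Subtype.ext ?_⟩
        rcases Finset.mem_insert.1 ha with rfl | ha'
        · show x ^ Nat.card W = 1
          rw [← hXc]
          exact congrArg Subtype.val (pow_card_eq_one' (x := (⟨x, hx⟩ : X)))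
        · show (a : G) ^ Nat.card W = 1
          exact congrArg Subtype.val
            (pow_card_eq_one' (x := (⟨a, (Finset.mem_filter.1 ha').2⟩ : W)))
      have hc : (Finset.univ.filter fun a : N => (a : G) ∈ W).card = Nat.card W := by
        rw [← Fintype.card_subtype, ← Nat.card_eq_fintype_card]
        exact Nat.card_congr
          ⟨fun a => ⟨(a.1 : G), a.2⟩, fun a => ⟨⟨a.1, hWN a.2⟩, a.2⟩, fun _ => rfl, fun _ => rfl⟩
      have := (Finset.card_le_card hs).trans (le_of_eq_of_le (by congr 1) hfin)
      rw [Finset.card_insert_of_notMem (by simp [hxW]), hc] at this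
      omega) hXc.ge
  · -- otherwise `W` is central
    have hWN' : W ≤ normalizer (N : Set G) := hWE.trans hEN
    have hcopWN : (Nat.card W).Coprime (Nat.card N) := hW.coprime_iff_not_dvd.2 hd
    haveI : IsMulCommutative N := IsCyclic.isMulCommutative
    have hWC : W ≤ centralizer (N : Set G) := by
      refine Frobenius.le_centralizer_of_prime_order hWN' hcopWN fun v hv hvp a ha => ?_
      by_cases ha1 : a = 1
      · simp [ha1]
      have hao : orderOf a = Nat.card W := by
        have h1 : orderOf a ∣ Nat.card W := Subgroup.orderOf_dvd_natCard W ha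
        exact (hW.eq_one_or_self_of_dvd _ h1).resolve_left (mt orderOf_eq_one_iff.1 ha1)
      refine (h.commute_of_prime_orders hH hvp hW ?_ (hNE hv) (hWE ha) rfl hao ?_).eq.symm
      · exact fun e => hd (e ▸ Subgroup.orderOf_dvd_natCard N hv)
      · -- conjugation fixes each subgroup of a cyclic group
        haveI := Fintype.ofFinite N
        let c : N →* N :=
          MonoidHom.mk' (fun x => ⟨a * x * a⁻¹, (mem_normalizer_iff.1 (hWN' ha) x).1 x.2⟩)
            (fun x y => Subtype.ext (by simp only [coe_mul]; group))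
        obtain ⟨m, hm⟩ := MonoidHom.map_cyclic c
        refine ⟨m, ?_⟩
        exact ((congrArg Subtype.val (hm ⟨v, hv⟩)).trans rfl).symm
    intro g hg
    have key : g * w * g⁻¹ = w := by
      set n := g * w * g⁻¹ * (w : G)⁻¹ with hn
      have hnN : n ∈ N := hcomm g hg
      have hnc : Commute n (w : G) := (mem_centralizer_iff.1 (hWC w.2) n hnN)
      have hgw : g * w * g⁻¹ = n * w := by rw [hn]; group
      have h1 : (n * w) ^ Nat.card W = 1 := by
        rw [← hgw, conj_pow, ← hw, pow_orderOf_eq_one, mul_one, mul_inv_cancel]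
      rw [hnc.mul_pow, ← hw, pow_orderOf_eq_one, mul_one, hw] at h1
      have h2 : (⟨n, hnN⟩ : N) = 1 := (powCoprime (Nat.Coprime.symm hcopWN)).injective
        (show (⟨n, hnN⟩ : N) ^ Nat.card W = (1 : N) ^ Nat.card W from Subtype.ext (by simpa using h1))
      rw [hgw, show n = 1 from congrArg Subtype.val h2, one_mul]
    rw [mem_normalizer_iff_map_conj_eq, ← hWz, MonoidHom.map_zpowers]
    exact congrArg zpowers key

end Cfsg.Agent.PF14
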