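import Mathlib

/-!
Rigidity of additive arrays with at most four nonzero cells (used for Peterfalvi (4.8)).
-/

set_option autoImplicit false

namespace Cfsg.Agent.PF.GridRigid

variable {X Y : Type*} [Fintype X] [Fintype Y]

theorem exists_avoid (l : List X) (h : l.length < Fintype.card X) : ∃ a, a ∉ l := by
  classical
  obtain ⟨a, -, ha⟩ := Finset.exists_mem_notMem_of_card_lt_card
    (show l.toFinset.card < (Finset.univ : Finset X).card by
      rw [Finset.card_univ]; exact lt_of_le_of_lt (List.toFinset_card_le l) h)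
  exact ⟨a, fun h => ha (List.mem_toFinset.2 h)⟩

/-- If an array with at most two nonzero cells, all `±1`, becomes additive on subtracting the unit
cells at `(i₀, j)` and `-(i₀, k)`, then it is that difference. -/
theorem grid_two (hX : 3 ≤ Fintype.card X) (hY : 3 ≤ Fintype.card Y)
    (h5 : 5 ≤ Fintype.card X ∨ 5 ≤ Fintype.card Y)
    (c : X → Y → ℂ) (p q : X × Y) (hc0 : ∀ i l, (i, l) ≠ p → (i, l) ≠ q → c i l = 0)
    (hc1 : ∀ i l, c i l = 0 ∨ c i l = 1 ∨ c i l = -1)
    (i₀ : X) (j k : Y) (hjk : j ≠ k) (d : X → Y → ℂ)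
    (hd : ∀ i l, (i, l) ≠ (i₀, j) → (i, l) ≠ (i₀, k) → d i l = c i l)
    (hdj : d i₀ j = c i₀ j - 1) (hdk : d i₀ k = c i₀ k + 1)
    (hadd : ∀ i i' l l', d i l + d i' l' = d i l' + d i' l) :
    c i₀ j = 1 ∧ c i₀ k = -1 := by
  suffices h : d i₀ j = 0 ∧ d i₀ k = 0 from
    ⟨by linear_combination h.1 - hdj, by linear_combination h.2 - hdk⟩
  have zero : ∀ i l, (i, l) ≠ (i₀, j) → (i, l) ≠ (i₀, k) → (i, l) ≠ p → (i, l) ≠ q → d i l = 0 :=
    fun i l a b e f => (hd i l a b).trans (hc0 i l e f)
  rcases h5 with h5 | h5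
  · -- a zero row: the rows are constant
    obtain ⟨i₁, hi₁⟩ := exists_avoid [i₀, p.1, q.1] (by simp; omega)
    simp only [List.mem_cons, List.not_mem_nil, or_false, not_or] at hi₁
    have hz : ∀ l, d i₁ l = 0 := fun l => zero i₁ l (fun e => hi₁.1 (congrArg Prod.fst e))
      (fun e => hi₁.1 (congrArg Prod.fst e)) (fun e => hi₁.2.1 (congrArg Prod.fst e))
      (fun e => hi₁.2.2 (congrArg Prod.fst e))
    have hconst : ∀ l, d i₀ l = d i₀ j := fun l => by
      have := hadd i₀ i₁ l j
      rw [hz, hz, add_zero, add_zero] at this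
      exact this
    suffices d i₀ j = 0 from ⟨this, (hconst k).trans this⟩
    obtain ⟨l, hl⟩ := exists_avoid [j, k] (by simp; omega)
    simp only [List.mem_cons, List.not_mem_nil, or_false, not_or] at hl
    by_contra ha
    have e : c i₀ l = d i₀ j := by
      rw [← hd i₀ l (fun e => hl.1 (congrArg Prod.snd e)) (fun e => hl.2 (congrArg Prod.snd e)),
        hconst l]
    have ek : c i₀ k + 1 = d i₀ j := by rw [← hdk, hconst k]
    rcases hc1 i₀ l with h0 | h0 | h0
    · exact ha (e ▸ h0)
    · rw [h0] at e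
      rcases hc1 i₀ j with h1 | h1 | h1 <;> rw [hdj, h1] at e <;> norm_num at e
    · rw [h0] at e
      rcases hc1 i₀ k with h1 | h1 | h1 <;> rw [h1, ← e] at ek <;> norm_num at ek
  · -- a zero column: the columns are constant
    obtain ⟨l₁, hl₁⟩ := exists_avoid [j, k, p.2, q.2] (by simp; omega)
    simp only [List.mem_cons, List.not_mem_nil, or_false, not_or] at hl₁
    have hz : ∀ i, d i l₁ = 0 := fun i => zero i l₁ (fun e => hl₁.1 (congrArg Prod.snd e))
      (fun e => hl₁.2.1 (congrArg Prod.snd e)) (fun e => hl₁.2.2.1 (congrArg Prod.snd e))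
      (fun e => hl₁.2.2.2 (congrArg Prod.snd e))
    have hconst : ∀ i l, d i l = d i₀ l := fun i l => by
      have := hadd i i₀ l l₁
      rw [hz, hz, add_zero, zero_add] at this
      exact this
    have key : ∀ (a b : Y), a ≠ b → (∀ i, (i, a) ≠ (i₀, b)) → d i₀ a ≠ 0 →
        (∀ i, i ≠ i₀ → (i, a) = p ∨ (i, a) = q) := by
      intro a b _ _ ha i hi
      by_contra hne
      rw [not_or] at hne
      refine ha ?_
      rw [← hconst i a]
      exact zero i a (fun e => hi (congrArg Prod.fst e)) (fun e => hi (congrArg Prod.fst e))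
        hne.1 hne.2
    obtain ⟨i₁, hi₁⟩ := exists_avoid [i₀] (by simp; omega)
    obtain ⟨i₂, hi₂⟩ := exists_avoid [i₀, i₁] (by simp; omega)
    simp only [List.mem_cons, List.not_mem_nil, or_false, not_or] at hi₁ hi₂
    have col : ∀ a, d i₀ a ≠ 0 → p.2 = a ∧ q.2 = a := by
      intro a ha
      have h1 := key a l₁ (fun e => ha (e ▸ hz i₀)) (fun i e => ha (by
        have := congrArg Prod.snd e; simp only at this; subst this; exact hz i₀)) ha
      rcases h1 i₁ hi₁ with rfl | rfl
      · rcases h1 i₂ hi₂.1 with e | rfl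
        · exact absurd (congrArg Prod.fst e) hi₂.2
        · exact ⟨rfl, rfl⟩
      · rcases h1 i₂ hi₂.1 with rfl | e
        · exact ⟨rfl, rfl⟩
        · exact absurd (congrArg Prod.fst e) hi₂.2
    have other : ∀ a b, a ≠ b → d i₀ a ≠ 0 → c i₀ b = 0 := by
      intro a b hab ha
      obtain ⟨ep, eq⟩ := col a ha
      exact hc0 i₀ b (fun e => hab (ep ▸ (congrArg Prod.snd e).symm))
        (fun e => hab (eq ▸ (congrArg Prod.snd e).symm))
    constructor <;> by_contra ha
    · have e := other j k hjk ha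
      have hk : d i₀ k = 1 := by rw [hdk, e, zero_add]
      exact hjk ((col j ha).1.symm.trans (col k (by rw [hk]; exact one_ne_zero)).1)
    · have e := other k j hjk.symm ha
      have hj : d i₀ j = -1 := by rw [hdj, e, zero_sub]
      exact hjk ((col j (by rw [hj]; norm_num)).1.symm.trans (col k ha).1)

end Cfsg.Agent.PF.GridRigid
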