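import Cfsg.Agent.OddChar.CyclicExist
import Cfsg.Agent.Lib.CharCore.Virtual
import Cfsg.Agent.PF.GridRigid

/-!
The family of a cyclic TI subgroup `W₁W₂` of `G` lying in a subgroup `L`, indexed by the linear
characters of the subgroup of `L` (Peterfalvi (3.2)-(3.5) in the form used from §4 on).
-/

set_option autoImplicit false

namespace Cfsg.Agent.PF

open Cfsg OddChar OddChar.CycTI
open scoped ComplexConjugate

variable {G : Type*} [Group G]

/-- The identification of `W₁W₂` computed in `L` and in `G`. -/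
noncomputable def wEquiv (L : Subgroup G) (W₁ W₂ : Subgroup L) :
    ↥(W₁ ⊔ W₂) ≃* ↥(W₁.map L.subtype ⊔ W₂.map L.subtype) :=
  ((W₁ ⊔ W₂).equivMapOfInjective L.subtype L.subtype_injective).trans
    (MulEquiv.subgroupCongr (Subgroup.map_sup W₁ W₂ L.subtype))

theorem coe_wEquiv {L : Subgroup G} {W₁ W₂ : Subgroup L} (w : ↥(W₁ ⊔ W₂)) :
    ((wEquiv L W₁ W₂ w : ↥(W₁.map L.subtype ⊔ W₂.map L.subtype)) : G) = ((w : L) : G) := rfl

theorem mem_up {L : Subgroup G} {U : Subgroup L} {x : L} :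
    (x : G) ∈ U.map L.subtype ↔ x ∈ U :=
  Subgroup.mem_map_iff_mem L.subtype_injective

variable [Fintype G]

/-- The properties of the family used from Peterfalvi §4 on. -/
structure Eta (L : Subgroup G) (W₁ W₂ : Subgroup L)
    (η : (↥(W₁ ⊔ W₂) →* ℂˣ) → G → ℂ) : Prop where
  signed : ∀ ω, IsSignedIrr (η ω)
  orth : ∀ ω ω', ω ≠ ω' → classInner (η ω) (η ω') = 0
  map_one : η 1 = fun _ => 1
  eq_on : ∀ ω, ∀ w : ↥(W₁ ⊔ W₂), (w : L) ∉ W₁ → (w : L) ∉ W₂ → η ω ((w : L) : G) = (ω w : ℂ)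
  additive : ∀ θ : G → ℂ, IsClassFunction G θ →
    (∀ w : ↥(W₁ ⊔ W₂), (w : L) ∉ W₁ → (w : L) ∉ W₂ → θ ((w : L) : G) = 0) →
    ∀ φ ∈ D1 W₁ W₂, ∀ ψ ∈ D2 W₁ W₂, classInner θ (η (φ * ψ)) =
      classInner θ (η φ) + classInner θ (η ψ) - classInner θ (η 1)
  vanish : ∀ θ : G → ℂ, IsClassFunction G θ → (∀ ω, classInner θ (η ω) = 0) →
    ∀ w : ↥(W₁ ⊔ W₂), (w : L) ∉ W₁ → (w : L) ∉ W₂ → θ ((w : L) : G) = 0

theorem Eta.self {L : Subgroup G} {W₁ W₂ : Subgroup L} {η} (E : Eta L W₁ W₂ η)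
    (ω : ↥(W₁ ⊔ W₂) →* ℂˣ) : classInner (η ω) (η ω) = 1 := signed_inner_self (E.signed ω)

theorem Eta.isClassFun {L : Subgroup G} {W₁ W₂ : Subgroup L} {η} (E : Eta L W₁ W₂ η)
    (ω : ↥(W₁ ⊔ W₂) →* ℂˣ) : IsClassFunction G (η ω) :=
  CharCore.IsGeneralizedCharacter.isClassFunction (E.signed ω).isGeneralizedCharacter

theorem Eta.injective {L : Subgroup G} {W₁ W₂ : Subgroup L} {η} (E : Eta L W₁ W₂ η) :
    Function.Injective η := fun a b e => by
  by_contra hne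
  have := E.orth a b hne
  rw [e, E.self] at this
  exact one_ne_zero this

theorem exists_eta (L : Subgroup G) (W₁ W₂ : Subgroup L)
    (hW : IsSelfNormalizingCyclic (W₁.map L.subtype) (W₂.map L.subtype))
    (hodd : Odd (Nat.card ↥(W₁ ⊔ W₂))) : ∃ η, Eta L W₁ W₂ η := by
  classical
  let e := wEquiv L W₁ W₂
  have hodd' : Odd (Nat.card ↥(W₁.map L.subtype ⊔ W₂.map L.subtype)) := by
    rwa [← Nat.card_congr e.toEquiv]
  obtain ⟨χ, hχ⟩ := exists_family hW hodd'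
  let t : (↥(W₁ ⊔ W₂) →* ℂˣ) → (↥(W₁.map L.subtype ⊔ W₂.map L.subtype) →* ℂˣ) :=
    fun ω => ω.comp e.symm.toMonoidHom
  have ht : Function.Injective t := fun a b h => MonoidHom.ext fun w => by
    simpa [t] using DFunLike.congr_fun h (e w)
  have htsurj : Function.Surjective t := fun a =>
    ⟨a.comp e.toMonoidHom, MonoidHom.ext fun w => by simp [t]⟩
  have hmem : ∀ w : ↥(W₁ ⊔ W₂), ((e w : ↥(W₁.map L.subtype ⊔ W₂.map L.subtype)) : G) ∈
      W₁.map L.subtype ↔ (w : L) ∈ W₁ := fun w => by rw [coe_wEquiv]; exact mem_up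
  have hmem' : ∀ w : ↥(W₁ ⊔ W₂), ((e w : ↥(W₁.map L.subtype ⊔ W₂.map L.subtype)) : G) ∈
      W₂.map L.subtype ↔ (w : L) ∈ W₂ := fun w => by rw [coe_wEquiv]; exact mem_up
  have hval : ∀ v : ↥(W₁.map L.subtype ⊔ W₂.map L.subtype),
      (((e.symm v : ↥(W₁ ⊔ W₂)) : L) : G) = (v : G) := fun v => by
    rw [← coe_wEquiv, e.apply_symm_apply]
  have hV : ∀ θ : G → ℂ,
      (∀ w : ↥(W₁ ⊔ W₂), (w : L) ∉ W₁ → (w : L) ∉ W₂ → θ ((w : L) : G) = 0) →
      ∀ v : ↥(W₁.map L.subtype ⊔ W₂.map L.subtype), (v : G) ∉ W₁.map L.subtype →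
        (v : G) ∉ W₂.map L.subtype → θ v = 0 := by
    intro θ hθ v a b
    rw [← hval v] at a b ⊢
    exact hθ _ (fun h => a (mem_up.2 h)) (fun h => b (mem_up.2 h))
  refine ⟨fun ω => χ (t ω), ⟨fun ω => hχ.irr_or_neg _, fun a b h => ?_, ?_, ?_, ?_, ?_⟩⟩
  · rw [hχ.orthonormal, if_neg fun q => h (ht q)]
  · show χ (t 1) = _
    rw [show t 1 = 1 from MonoidHom.ext fun w => rfl, hχ.map_one]
  · intro ω w a b
    have := hχ.eq_on (t ω) (e w) (fun h => a ((hmem w).1 h)) (fun h => b ((hmem' w).1 h))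
    rw [coe_wEquiv] at this
    simpa [t] using this
  · intro θ hθ hθV φ hφ ψ hψ
    refine coeff_additive (φ := t φ) (ψ := t ψ) hχ hθ (hV θ hθV) ?_ ?_
    · intro v hv
      refine hφ _ ?_
      rw [← hval v] at hv
      exact mem_up.1 hv
    · intro v hv
      refine hψ _ ?_
      rw [← hval v] at hv
      exact mem_up.1 hv
  · intro θ hθ ho w a b
    have := vanish_of_orth hW hχ hθ (fun ω' => by obtain ⟨ω, rfl⟩ := htsurj ω'; exact ho ω)
      (e w) (fun h => a ((hmem w).1 h)) (fun h => b ((hmem' w).1 h))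
    rwa [coe_wEquiv] at this

end Cfsg.Agent.PF
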