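import Cfsg.Prelude.Def_OddOrderLocal
import Cfsg.Agent.BGSummary.TypeTools
import Cfsg.Agent.BGUniq.FittingHall
import Cfsg.Agent.Lib.Transfer.Hall
import Cfsg.Agent.Lib.Coprime.SchurZassenhaus
import Cfsg.Agent.PF.FinalConfig
import Cfsg.Agent.PF.CentralPrime

/-!
The maximal subgroup containing the normalizer of the complement `U` of a subgroup of type II.
-/

set_option autoImplicit false

namespace Cfsg.Agent.PF14

open Cfsg Subgroup

universe u

variable {G : Type u} [Group G] [Finite G]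

/-- An element of order prime to the index of `M_F` in `M` lies in `M_F`. -/
lemma mem_fittingHallOf_of_coprime {M : Subgroup G} {x : G} (hx : x ∈ M)
    (hcop : (orderOf x).Coprime (fittingHall M).index) : x ∈ fittingHallOf M := by
  have h := BGUniq.pow_index_fittingHallOf (M := M) hx
  obtain ⟨k, hk⟩ := exists_pow_eq_self_of_coprime hcop.symm
  rw [← hk]
  exact pow_mem h k

/-- A subgroup of prime order whose order divides `|M_F|` lies in `M_F`. -/
lemma le_fittingHallOf_of_dvd {M W : Subgroup G} (hWM : W ≤ M) (hW : (Nat.card W).Prime)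
    (hd : Nat.card W ∣ Nat.card (fittingHallOf M)) : W ≤ fittingHallOf M := fun x hx => by
  refine mem_fittingHallOf_of_coprime (hWM hx) ?_
  refine Nat.Coprime.coprime_dvd_left (Subgroup.orderOf_dvd_natCard W hx) ?_
  rw [hW.coprime_iff_not_dvd]
  intro h'
  exact hW.one_lt.ne' (Nat.eq_one_of_dvd_coprimes
    (BGUniq.fittingHall_coprime M) (BGUniq.card_fittingHallOf M ▸ hd) h')

/-- If `W` normalizes `U` without fixed points and both lie in `M`, then `U` lies in any subgroup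
normal in `M` that contains `W`. -/
lemma le_of_fpf_mem {M N U W : Subgroup G} (hUM : U ≤ M) (hMN : M ≤ normalizer (N : Set G))
    (hWU : W ≤ normalizer (U : Set G)) {w : G} (hwW : w ∈ W) (hwN : w ∈ N)
    (hfix : ∀ u ∈ U, u * w = w * u → u = 1) : U ≤ N := by
  classical
  let φ : U → U := fun u =>
    ⟨(u : G) * (w * (u : G)⁻¹ * w⁻¹),
      mul_mem u.2 ((mem_normalizer_iff.1 (hWU hwW) _).1 (inv_mem u.2))⟩
  have hinj : Function.Injective φ := by
    intro a b e
    have e' : (a : G) * (w * (a : G)⁻¹ * w⁻¹) = (b : G) * (w * (b : G)⁻¹ * w⁻¹) :=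
      congrArg Subtype.val e
    have h1 : ((b⁻¹ * a : U) : G) * w = w * (b⁻¹ * a : U) := by
      have e2 := congrArg (fun t => (b : G)⁻¹ * t * w * (a : G)) e'
      simp only [coe_mul, coe_inv]
      simpa [mul_assoc] using e2
    exact (inv_mul_eq_one.1 (Subtype.ext (hfix _ (b⁻¹ * a).2 h1))).symm
  intro u hu
  obtain ⟨v, hv⟩ := (Finite.injective_iff_surjective.1 hinj) ⟨u, hu⟩
  have h1 : (v : G) * (w * (v : G)⁻¹ * w⁻¹) = u := congrArg Subtype.val hv
  rw [← h1, show (v : G) * (w * (v : G)⁻¹ * w⁻¹) = (v * w * (v : G)⁻¹) * w⁻¹ by group]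
  exact mul_mem ((mem_normalizer_iff.1 (hMN (hUM v.2)) w).1 hwN) (inv_mem hwN)

/-- No conjugate of `S` contains the normalizer of its complement `U`, for `S` of type II. -/
theorem not_conj_of_typeII {S W₁ W₂ U : Subgroup G} (hS : IsCoatom S) (hSP : IsTypePWith S W₁ U W₂)
    (hq : (Nat.card W₁).Prime) (hmod : Nat.card U % Nat.card W₁ = 1) (hSII : IsOfTypeII S)
    (hsolv : Group.IsSolvable (fittingHallOf S)) (g : G) :
    ¬ normalizer (U : Set G) ≤ S.map (MulAut.conj g).toMonoidHom := by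
  intro hle
  obtain ⟨W₁', U', W₂', hSP', -, -, -, -, hnot, -, -⟩ := hSII
  apply hnot
  set H := fittingHallOf S with hH
  set X := U.map (MulAut.conj g⁻¹).toMonoidHom with hX
  have hUN : U ≤ normalizer (U : Set G) := le_normalizer
  have hXS : X ≤ S := by
    rintro _ ⟨u, hu, rfl⟩
    obtain ⟨s, hs, e⟩ := hle (hUN hu)
    rw [← e]
    simpa [mul_assoc] using hs
  have hXc : Nat.card X = Nat.card U := card_map_of_injective (MulAut.conj g⁻¹).injective
  -- `X` lies in the derived subgroup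
  have hqU : ¬ Nat.card W₁ ∣ Nat.card U := fun h => by
    have := Nat.mod_eq_zero_of_dvd h
    omega
  have hD : ⁅S, S⁆ ≤ S := hSP.W₁_compl.1
  have hDn : S ≤ normalizer ((⁅S, S⁆ : Subgroup G) : Set G) :=
    Coprime.le_normalizer_commutator_left S S
  have hXD : X ≤ ⁅S, S⁆ := by
    intro x hx
    obtain ⟨a, ha, b, hb, hab⟩ := hSP.W₁_compl.2.2.2 x (hXS hx)
    have hcop : (orderOf x).Coprime (Nat.card W₁) :=
      Nat.Coprime.coprime_dvd_left (hXc ▸ Subgroup.orderOf_dvd_natCard X hx)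
        (Nat.coprime_comm.1 (hq.coprime_iff_not_dvd.2 hqU))
    haveI : ((⁅S, S⁆).subgroupOf S).Normal := Subgroup.normal_subgroupOf_iff_le_normalizer hD |>.2 hDn
    let π := QuotientGroup.mk' ((⁅S, S⁆).subgroupOf S)
    have h1 : π ⟨x, hXS hx⟩ = π ⟨b, hSP.W₁_compl.2.1 hb⟩ := by
      have hπ : π ⟨a, hD ha⟩ = 1 := (QuotientGroup.eq_one_iff _).2 (mem_subgroupOf.2 ha)
      rw [show (⟨x, hXS hx⟩ : S) = ⟨a, hD ha⟩ * ⟨b, hSP.W₁_compl.2.1 hb⟩ from Subtype.ext hab,
        map_mul, hπ, one_mul]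
    have h2 : orderOf (π ⟨x, hXS hx⟩) ∣ orderOf x :=
      (orderOf_map_dvd π _).trans (by rw [← Subgroup.orderOf_coe])
    have h3 : orderOf (π ⟨x, hXS hx⟩) ∣ Nat.card W₁ := by
      rw [h1]
      exact (orderOf_map_dvd π _).trans (by
        rw [← Subgroup.orderOf_coe]; exact Subgroup.orderOf_dvd_natCard W₁ hb)
    have h4 := Nat.eq_one_of_dvd_coprimes hcop h2 h3
    have h5 : (⟨x, hXS hx⟩ : S) ∈ (⁅S, S⁆).subgroupOf S :=
      (QuotientGroup.eq_one_iff _).1 (orderOf_eq_one_iff.1 h4)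
    exact mem_subgroupOf.1 h5
  -- both `X` and `U'` are complements of `H` in the derived subgroup
  have hcard : ∀ {W₁ U W₂ : Subgroup G}, IsTypePWith S W₁ U W₂ →
      Nat.card (⁅S, S⁆ : Subgroup G) = Nat.card H * Nat.card U := by
    intro W₁ U W₂ h
    rw [← Nat.card_prod]
    refine (Nat.card_eq_of_bijective
      (fun ab : H × U => (⟨(ab.1 : G) * ab.2, mul_mem (h.U_compl.1 ab.1.2) (h.U_compl.2.1 ab.2.2)⟩ :
        (⁅S, S⁆ : Subgroup G))) ⟨?_, ?_⟩).symm
    · rintro ⟨a, b⟩ ⟨a', b'⟩ he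
      exact Subgroup.mul_injective_of_disjoint (disjoint_iff.2 h.U_compl.2.2.1)
        (show (a : G) * b = a' * b' from congrArg Subtype.val he)
    · rintro ⟨z, hz⟩
      obtain ⟨a, ha, b, hb, rfl⟩ := h.U_compl.2.2.2 z hz
      exact ⟨(⟨a, ha⟩, ⟨b, hb⟩), rfl⟩
  have hHcop : ∀ {W₁ U W₂ : Subgroup G}, IsTypePWith S W₁ U W₂ →
      (Nat.card U).Coprime (Nat.card H) := by
    intro W₁ U W₂ h
    have h1 := Subgroup.relIndex_mul_relIndex ⊥ H ⁅S, S⁆ bot_le h.U_compl.1
    rw [relIndex_bot_left, relIndex_bot_left, hcard h] at h1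
    have h2 := Nat.eq_of_mul_eq_mul_left Nat.card_pos h1
    exact ((BGSummary.fittingHallOf_relIndex_coprime S).coprime_dvd_right
      (h2 ▸ ⟨_, (Subgroup.relIndex_mul_relIndex H ⁅S, S⁆ S h.U_compl.1 hD).symm⟩)).symm
  have hUU : Nat.card U' = Nat.card U := by
    have := (hcard hSP).symm.trans (hcard hSP')
    exact (Nat.eq_of_mul_eq_mul_left Nat.card_pos this).symm
  have hSH : S ≤ normalizer (H : Set G) := BGSummary.le_normalizer_fittingHallOf S
  have hXle : X ≤ H ⊔ U' := hXD.trans fun z hz => by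
    obtain ⟨a, ha, b, hb, rfl⟩ := hSP'.U_compl.2.2.2 z hz
    exact mul_mem_sup ha hb
  obtain ⟨n, hn, hconj⟩ := Coprime.exists_conj_le_of_solvable H X U' (hXS.trans hSH)
    ((complement_le hSP').trans hSH) hsolv hXle (hXc ▸ hHcop hSP) (hHcop hSP')
  have hU' : U' = X.map (MulAut.conj n).toMonoidHom := by
    refine (eq_of_le_of_card_ge ?_ ?_).symm
    · rintro _ ⟨x, hx, rfl⟩; exact hconj x hx
    · rw [card_map_of_injective (MulAut.conj n).injective, hXc, hUU]
  have hnS : n ∈ S := BGUniq.fittingHallOf_le S hn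
  intro a ha
  rw [hU', hX, map_map] at ha
  have ha' : (n * g⁻¹)⁻¹ * a * (n * g⁻¹) ∈ normalizer (U : Set G) := by
    rw [mem_normalizer_iff]
    intro u
    have h1 := mem_normalizer_iff.1 ha ((n * g⁻¹) * u * (n * g⁻¹)⁻¹)
    have key : ∀ v : G,
        v ∈ U.map ((MulAut.conj n).toMonoidHom.comp (MulAut.conj g⁻¹).toMonoidHom) ↔
          (n * g⁻¹)⁻¹ * v * (n * g⁻¹) ∈ U := by
      intro v
      constructor
      · rintro ⟨t, ht, rfl⟩
        simpa [mul_assoc] using ht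
      · intro hv
        exact ⟨_, hv, by simp [mul_assoc]⟩
    rw [key, key] at h1
    simpa [mul_assoc] using h1
  obtain ⟨s, hs, e⟩ := hle ha'
  have : a = n * s * n⁻¹ := by
    have e' : g * s * g⁻¹ = (n * g⁻¹)⁻¹ * a * (n * g⁻¹) := e
    have := congrArg (fun t => (n * g⁻¹) * t * (n * g⁻¹)⁻¹) e'
    simp only [mul_inv_rev, inv_inv] at this ⊢
    simpa [mul_assoc] using this.symm
  rw [this]
  exact mul_mem (mul_mem hnS hs) (inv_mem hnS)

/-- No conjugate of `T` contains the normalizer of `U`. -/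
theorem not_conj_of_other {T W₁ U : Subgroup G} (hq : (Nat.card W₁).Prime)
    (hQp : ∃ n, Nat.card (fittingHallOf T) = Nat.card W₁ ^ n) (hQd : Nat.card W₁ ∣ Nat.card (fittingHallOf T))
    (hmod : Nat.card U % Nat.card W₁ = 1) (hU1 : U ≠ ⊥) (hWU : W₁ ≤ normalizer (U : Set G))
    (hfix : U ⊓ centralizer (W₁ : Set G) = ⊥) (g : G) :
    ¬ normalizer (U : Set G) ≤ T.map (MulAut.conj g).toMonoidHom := by
  intro hle
  set X := U.map (MulAut.conj g⁻¹).toMonoidHom with hX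
  set Y := W₁.map (MulAut.conj g⁻¹).toMonoidHom with hY
  have hmem : ∀ {a : G}, a ∈ normalizer (U : Set G) → g⁻¹ * a * g ∈ T := by
    intro a ha
    obtain ⟨s, hs, e⟩ := hle ha
    rw [← e]
    simpa [mul_assoc] using hs
  have hXT : X ≤ T := by
    rintro _ ⟨u, hu, rfl⟩
    simpa using hmem (le_normalizer hu)
  have hYT : Y ≤ T := by
    rintro _ ⟨w, hw, rfl⟩
    simpa using hmem (hWU hw)
  have hYc : Nat.card Y = Nat.card W₁ := card_map_of_injective (MulAut.conj g⁻¹).injective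
  have hYQ : Y ≤ fittingHallOf T := le_fittingHallOf_of_dvd hYT (hYc.symm ▸ hq) (hYc.symm ▸ hQd)
  obtain ⟨w, hw, hw1⟩ : ∃ w ∈ W₁, w ≠ 1 := by
    obtain ⟨a, ha⟩ := W₁.ne_bot_iff_exists_ne_one.1
      (fun e => hq.one_lt.ne' (by rw [e, card_bot]))
    exact ⟨a, a.2, fun e => ha (Subtype.ext e)⟩
  have hWY : Y ≤ normalizer (X : Set G) := by
    rintro _ ⟨a, ha, rfl⟩
    exact Subgroup.le_normalizer_map _ ⟨a, hWU ha, rfl⟩
  have hXQ : X ≤ fittingHallOf T := by
    refine le_of_fpf_mem hXT (BGSummary.le_normalizer_fittingHallOf T) hWY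
      (mem_map_of_mem _ hw) (hYQ (mem_map_of_mem _ hw)) ?_
    rintro _ ⟨u, hu, rfl⟩ e
    rw [← map_mul, ← map_mul] at e
    have e' : u * w = w * u := (MulAut.conj g⁻¹).injective (by exact e)
    have hu1 : u ∈ U ⊓ centralizer (W₁ : Set G) := by
      refine ⟨hu, mem_centralizer_iff.2 fun y hy => ?_⟩
      obtain ⟨k, rfl⟩ := mem_zpowers_iff.1
        ((zpowers_eq_top_of_prime_card (G := W₁) (p := Nat.card W₁) (hp := ⟨hq⟩) rfl
          (g := ⟨w, hw⟩) (fun e => hw1 (congrArg Subtype.val e))).symm ▸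
          mem_top (⟨y, hy⟩ : W₁) : (⟨y, hy⟩ : W₁) ∈ zpowers (⟨w, hw⟩ : W₁)) |> fun ⟨k, hk⟩ =>
        (⟨k, congrArg Subtype.val hk⟩ : ∃ k : ℤ, w ^ k = y)
      exact (Commute.zpow_right (show Commute u w from e') k).eq.symm
    rw [hfix, mem_bot] at hu1
    simp [hu1]
  obtain ⟨n, hn⟩ := hQp
  have hd : Nat.card U ∣ Nat.card W₁ ^ n := by
    rw [← hn, ← (card_map_of_injective (MulAut.conj g⁻¹).injective : Nat.card X = Nat.card U)]
    exact card_dvd_of_le hXQ
  obtain ⟨k, -, hk⟩ := (Nat.dvd_prime_pow hq).1 hd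
  rcases Nat.eq_zero_or_pos k with rfl | hk0
  · exact hU1 (card_eq_one.1 (by rwa [pow_zero] at hk))
  · have := Nat.mod_eq_zero_of_dvd (hk ▸ dvd_pow_self (Nat.card W₁) hk0.ne')
    omega

/-- The kernel and complement of a maximal subgroup of Frobenius type containing `N(U)`. -/
theorem frobenius_structure (hodd : Odd (Nat.card G)) {S T W₁ W₂ U V L : Subgroup G}
    (hSP : IsTypePWith S W₁ U W₂) (hTP : IsTypePWith T W₂ V W₁)
    (hq : (Nat.card W₁).Prime) (hp : (Nat.card W₂).Prime) (hne : Nat.card W₁ ≠ Nat.card W₂)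
    (hQel : IsElementaryAbelian (Nat.card W₁) (fittingHallOf T))
    (hQcard : Nat.card (fittingHallOf T) = Nat.card W₁ ^ Nat.card W₂)
    (hU1 : U ≠ ⊥) (hCW : centralizer (W₁ : Set G) = fittingHallOf T ⊔ W₂)
    (hNW : normalizer (W₁ : Set G) = centralizer (W₁ : Set G))
    (hNU : normalizer (U : Set G) ≤ L) (hLne : fittingHallOf L ≠ ⊥)
    (hfrob : ∀ x ∈ fittingHallOf L, x ≠ 1 → L ⊓ centralizer ({x} : Set G) ≤ fittingHallOf L) :
    U ≤ fittingHallOf L ∧
      ((fittingHallOf L ⊓ W₁ = ⊥ ∧ fittingHallOf L ⊔ W₁ = L) ∨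
        ∃ y ∈ fittingHallOf T,
          fittingHallOf L ⊓ (W₁ ⊔ W₂.map (MulAut.conj y).toMonoidHom) = ⊥ ∧
          fittingHallOf L ⊔ (W₁ ⊔ W₂.map (MulAut.conj y).toMonoidHom) = L) := by
  classical
  have hUL : U ≤ L := le_normalizer.trans hNU
  have hWL : W₁ ≤ L := hSP.U_normal.trans hNU
  set H := fittingHallOf L with hH
  have hHL : H ≤ L := BGUniq.fittingHallOf_le L
  have hLH : L ≤ normalizer (H : Set G) := BGSummary.le_normalizer_fittingHallOf L
  have hfix := inf_centralizer_eq_bot hSP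
  have hmod := card_mod_of_prime_fpf hq U W₁ rfl hSP.U_normal hfix
  -- a complement of `H` in `L` acts without fixed points
  obtain ⟨E, hE⟩ := exists_right_complement'_of_coprime (BGUniq.fittingHall_coprime L)
  set E' : Subgroup G := E.map L.subtype with hE'
  have hE'L : E' ≤ L := map_subtype_le _
  have hfpf : Frobenius.IsFPF E' H := by
    refine ⟨hE'L.trans hLH, ?_⟩
    rintro _ ⟨a, ha, rfl⟩ ha1
    rw [eq_bot_iff]
    intro v ⟨hv, hva⟩
    by_contra hv1
    have haH : (a : G) ∈ H := hfrob v hv (fun e => hv1 (mem_bot.2 e)) ⟨a.2,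
      mem_centralizer_singleton_iff.2 (mem_centralizer_singleton_iff.1 hva).symm⟩
    obtain ⟨b, hb, e⟩ := haH
    obtain rfl : b = a := Subtype.ext e
    exact ha1 (by
      have := disjoint_def.1 hE.disjoint hb ha
      rw [this]; rfl)
  have hdecomp : ∀ x ∈ L, ∃ h ∈ H, ∃ e ∈ E', x = h * e := by
    intro x hx
    obtain ⟨⟨a, b⟩, hab⟩ := hE.existsUnique ⟨x, hx⟩ |>.exists
    exact ⟨(a : L), ⟨a, a.2, rfl⟩, ((b : L) : G), ⟨b, b.2, rfl⟩, congrArg Subtype.val hab.symm⟩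
  obtain ⟨w, hwW, hw1⟩ : ∃ w ∈ W₁, w ≠ 1 := by
    obtain ⟨a, ha⟩ := W₁.ne_bot_iff_exists_ne_one.1 hSP.W₁_ne
    exact ⟨a, a.2, fun e => ha (Subtype.ext e)⟩
  have hHn : ∀ x ∈ L, ∀ h ∈ H, x * h * x⁻¹ ∈ H := fun x hx h hh =>
    (mem_normalizer_iff.1 (hLH hx) h).1 hh
  -- `L` normalizes `H ⊔ W₁`
  have hnorm : ∀ x ∈ L, ∀ v ∈ W₁, x * v * x⁻¹ ∈ H ⊔ W₁ := by
    intro x hx v hv
    obtain ⟨h, hh, e, he, rfl⟩ := hdecomp v (hWL hv)
    by_cases he1 : e = 1
    · subst he1
      exact mem_sup_left (hHn x hx _ (by simpa using hh))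
    -- `e` has order `q`, so generates a normal subgroup of the complement
    have hord : orderOf e = Nat.card W₁ := by
      have h1 : (h * e) ^ Nat.card W₁ = 1 :=
        congrArg Subtype.val (pow_card_eq_one' (x := (⟨h * e, hv⟩ : W₁)))
      have h2 : e ^ Nat.card W₁ ∈ H := by
        haveI : (fittingHall L).Normal := inferInstance
        have h3 : QuotientGroup.mk' (fittingHall L) ⟨e, hE'L he⟩ =
            QuotientGroup.mk' (fittingHall L) ⟨h * e, hWL hv⟩ := by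
          obtain ⟨h', hh', e'⟩ := hh
          have hπ : QuotientGroup.mk' (fittingHall L) h' = 1 := (QuotientGroup.eq_one_iff _).2 hh'
          rw [show (⟨h * e, hWL hv⟩ : L) = h' * ⟨e, hE'L he⟩ from Subtype.ext (by simp [← e']),
            map_mul, hπ, one_mul]
        have h4 := congrArg (· ^ Nat.card W₁) h3
        simp only [← map_pow] at h4
        rw [show (⟨h * e, hWL hv⟩ : L) ^ Nat.card W₁ = 1 from Subtype.ext h1, map_one] at h4
        exact ⟨_, (QuotientGroup.eq_one_iff _).1 h4, rfl⟩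
      have h5 : e ^ Nat.card W₁ = 1 :=
        mem_bot.1 (hfpf.inf_eq_bot ▸ ⟨pow_mem he _, h2⟩ : e ^ Nat.card W₁ ∈ (⊥ : Subgroup G))
      exact (hq.eq_one_or_self_of_dvd _ (orderOf_dvd_of_pow_eq_one h5)).resolve_left
        (mt orderOf_eq_one_iff.1 he1)
    have hN := le_normalizer_of_prime_order hfpf hLne (hodd.of_dvd_nat (card_subgroup_dvd_card E'))
      (zpowers_le.2 he) (by rw [Nat.card_zpowers, hord]; exact hq)
    obtain ⟨k, hk, d, hd, rfl⟩ := hdecomp x hx
    obtain ⟨i, hi⟩ := mem_zpowers_iff.1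
      ((mem_normalizer_iff.1 (hN hd) e).1 (mem_zpowers e))
    have heW : e ∈ H ⊔ W₁ := by
      have hev := mul_mem_sup (inv_mem hh) hv
      rwa [inv_mul_cancel_left] at hev
    have h6 : k * d * (h * e) * (k * d)⁻¹ = (k * d) * h * (k * d)⁻¹ * (k * (e ^ i) * k⁻¹) := by
      rw [hi]; group
    rw [h6]
    exact mul_mem (mem_sup_left (hHn _ hx h hh))
      (mul_mem (mul_mem (mem_sup_left hk) (zpow_mem heW i)) (inv_mem (mem_sup_left hk)))
  have hWn : W₁ ≤ normalizer (H : Set G) := hWL.trans hLH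
  have hUnorm : L ≤ normalizer ((H ⊔ W₁ : Subgroup G) : Set G) := by
    intro x hx
    have key : ∀ y ∈ L, ∀ z ∈ H ⊔ W₁, y * z * y⁻¹ ∈ H ⊔ W₁ := by
      intro y hy z hz
      have hle : (H ⊔ W₁).map (MulAut.conj y).toMonoidHom ≤ H ⊔ W₁ := by
        rw [Subgroup.map_sup]
        refine sup_le ?_ ?_
        · rintro _ ⟨h, hh, rfl⟩; exact mem_sup_left (hHn y hy h hh)
        · rintro _ ⟨v, hv, rfl⟩; exact hnorm y hy v hv
      exact hle ⟨z, hz, rfl⟩
    rw [mem_normalizer_iff]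
    refine fun z => ⟨key x hx z, fun hz => ?_⟩
    have := key x⁻¹ (inv_mem hx) _ hz
    simpa [mul_assoc] using this
  have hfix' : ∀ u ∈ U, u * w = w * u → u = 1 := by
    intro u hu e
    have hu1 : u ∈ U ⊓ centralizer (W₁ : Set G) := by
      refine ⟨hu, mem_centralizer_iff.2 fun y hy => ?_⟩
      obtain ⟨k, hk⟩ := mem_zpowers_iff.1
        ((zpowers_eq_top_of_prime_card (G := W₁) (p := Nat.card W₁) (hp := ⟨hq⟩) rfl
          (g := ⟨w, hwW⟩) (fun e => hw1 (congrArg Subtype.val e))).symm ▸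
          mem_top (⟨y, hy⟩ : W₁) : (⟨y, hy⟩ : W₁) ∈ zpowers (⟨w, hwW⟩ : W₁))
      rw [show y = w ^ k from (congrArg Subtype.val hk).symm]
      exact (Commute.zpow_right (show Commute u w from e) k).eq.symm
    rw [hfix, mem_bot] at hu1
    exact hu1
  have hcop : (Nat.card U).Coprime (Nat.card W₁) :=
    Nat.coprime_comm.1 (hq.coprime_iff_not_dvd.2 fun hd => by
      have := Nat.mod_eq_zero_of_dvd hd; omega)
  -- the kernel is nilpotent, so does not contain `W₁`
  have hHW : H ⊓ W₁ = ⊥ := by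
    by_contra hne'
    obtain ⟨a, ha⟩ := (H ⊓ W₁).ne_bot_iff_exists_ne_one.1 hne'
    obtain ⟨haH, haW⟩ := mem_inf.1 a.2
    have hWH : W₁ ≤ H := by
      intro z hz
      obtain ⟨k, hk⟩ := mem_zpowers_iff.1
        ((zpowers_eq_top_of_prime_card (G := W₁) (p := Nat.card W₁) (hp := ⟨hq⟩) rfl
          (g := ⟨(a : G), haW⟩) (fun e => ha (Subtype.ext (congrArg (fun b : W₁ => (b : G)) e)))).symm ▸
          mem_top (⟨z, hz⟩ : W₁) : (⟨z, hz⟩ : W₁) ∈ zpowers (⟨(a : G), haW⟩ : W₁))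
      rw [show z = (a : G) ^ k from (congrArg Subtype.val hk).symm]
      exact zpow_mem haH k
    have hUH := le_of_fpf_mem hUL hLH hSP.U_normal hwW (hWH hwW) hfix'
    have hnil : Group.IsNilpotent H :=
      (Group.isNilpotent_congr ((fittingHall L).equivMapOfInjective L.subtype L.subtype_injective)).1
        (BGUniq.fittingHall_isNilpotent L)
    refine hU1 ((eq_bot_iff_forall _).2 fun u hu => hfix' u hu ?_)
    exact congrArg Subtype.val (Transfer.nilpotent_commute_of_coprime hnil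
      (x := ⟨u, hUH hu⟩) (y := ⟨w, hWH hwW⟩) (by
        rw [← Subgroup.orderOf_coe, ← Subgroup.orderOf_coe]
        exact Nat.Coprime.coprime_dvd_left (Subgroup.orderOf_dvd_natCard U hu)
          (hcop.coprime_dvd_right (Subgroup.orderOf_dvd_natCard W₁ hwW)))).eq
  -- `U ≤ H`
  have hUH : U ≤ H := by
    have hle := le_of_fpf_mem hUL hUnorm hSP.U_normal hwW (mem_sup_right hwW) hfix'
    intro u hu
    obtain ⟨h, hh, v, hv, e⟩ := Coprime.exists_mul_of_mem_sup hWn (hle hu)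
    haveI : (fittingHall L).Normal := inferInstance
    let π := QuotientGroup.mk' (fittingHall L)
    have h1 : π ⟨u, hUL hu⟩ = π ⟨v, hWL hv⟩ := by
      obtain ⟨h', hh', e'⟩ := hh
      have hπ : π h' = 1 := (QuotientGroup.eq_one_iff _).2 hh'
      rw [show (⟨u, hUL hu⟩ : L) = h' * ⟨v, hWL hv⟩ from Subtype.ext (by simp [e, ← e']), map_mul,
        hπ, one_mul]
    have h2 : orderOf (π ⟨u, hUL hu⟩) ∣ Nat.card U :=
      (orderOf_map_dvd π _).trans (by
        rw [← Subgroup.orderOf_coe]; exact Subgroup.orderOf_dvd_natCard U hu)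
    have h3 : orderOf (π ⟨u, hUL hu⟩) ∣ Nat.card W₁ := by
      rw [h1]
      exact (orderOf_map_dvd π _).trans (by
        rw [← Subgroup.orderOf_coe]; exact Subgroup.orderOf_dvd_natCard W₁ hv)
    exact ⟨_, (QuotientGroup.eq_one_iff _).1
      (orderOf_eq_one_iff.1 (Nat.eq_one_of_dvd_coprimes hcop h2 h3)), rfl⟩
  refine ⟨hUH, ?_⟩
  -- the centralizer of `W₁` in `L` is a complement
  set C := L ⊓ centralizer (W₁ : Set G) with hC
  have hWC : W₁ ≤ C := le_inf hWL (by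
    haveI := hSP.W₁_cyclic
    haveI : IsMulCommutative W₁ := IsCyclic.isMulCommutative
    exact le_centralizer W₁)
  have hCH : H ⊓ C = ⊥ := by
    rw [eq_bot_iff_forall]
    intro x hx
    by_contra hx1
    have : w ∈ H ⊓ W₁ := ⟨hfrob x hx.1 hx1
      ⟨hWL hwW, mem_centralizer_singleton_iff.2 (mem_centralizer_iff.1 hx.2.2 w hwW)⟩, hwW⟩
    rw [hHW, mem_bot] at this
    exact hw1 this
  -- Frattini argument in `H ⊔ W₁`
  have hHqd : ¬ Nat.card W₁ ∣ Nat.card H := fun hd => by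
    have := le_fittingHallOf_of_dvd hWL hq hd
    exact hSP.W₁_ne (le_bot_iff.1 (hHW ▸ le_inf this le_rfl))
  have hHcop : (Nat.card W₁).Coprime (Nat.card H) := hq.coprime_iff_not_dvd.2 hHqd
  haveI : Group.IsSolvable H := by
    haveI : Group.IsNilpotent H :=
      (Group.isNilpotent_congr ((fittingHall L).equivMapOfInjective L.subtype L.subtype_injective)).1
        (BGUniq.fittingHall_isNilpotent L)
    infer_instance
  have hsup : ∀ x ∈ L, ∃ h ∈ H, ∃ c ∈ C, x = h * c := by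
    intro x hx
    have hXc : Nat.card (W₁.map (MulAut.conj x).toMonoidHom) = Nat.card W₁ :=
      card_map_of_injective (MulAut.conj x).injective
    obtain ⟨n, hn, hconj⟩ := Coprime.exists_conj_le_of_solvable H
      (W₁.map (MulAut.conj x).toMonoidHom) W₁
      (by rintro _ ⟨v, hv, rfl⟩; exact hLH (mul_mem (mul_mem hx (hWL hv)) (inv_mem hx))) hWn
      (by assumption) (by rintro _ ⟨v, hv, rfl⟩; exact hnorm x hx v hv) (hXc ▸ hHcop) hHcop
    refine ⟨n⁻¹, inv_mem hn, n * x, ⟨mul_mem (hHL hn) hx, ?_⟩, by group⟩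
    show n * x ∈ centralizer (W₁ : Set G)
    rw [← hNW, mem_normalizer_iff_map_conj_eq]
    refine eq_of_le_of_card_ge ?_ (card_map_of_injective (MulAut.conj (n * x)).injective).ge
    rintro _ ⟨v, hv, rfl⟩
    simpa [mul_assoc] using hconj _ ⟨v, hv, rfl⟩
  have hCfpf : Frobenius.IsFPF C H := by
    refine ⟨inf_le_left.trans hLH, fun a ha ha1 => ?_⟩
    rw [eq_bot_iff]
    intro v ⟨hv, hva⟩
    by_contra hv1
    have haH : a ∈ H := hfrob v hv (fun e => hv1 (mem_bot.2 e))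
      ⟨ha.1, mem_centralizer_singleton_iff.2 (mem_centralizer_singleton_iff.1 hva).symm⟩
    exact ha1 (mem_bot.1 (hCH ▸ ⟨haH, ha⟩ : a ∈ (⊥ : Subgroup G)))
  have hCle : C ≤ fittingHallOf T ⊔ W₂ := hCW ▸ inf_le_right
  have hW₁Q : W₁ ≤ fittingHallOf T := hTP.W₂_le.trans inf_le_left
  have hW₂Q : W₂ ≤ normalizer (fittingHallOf T : Set G) :=
    hTP.W₁_compl.2.1.trans (BGSummary.le_normalizer_fittingHallOf T)
  haveI := Fact.mk hq
  haveI := Fact.mk hp
  have hQpg : IsPGroup (Nat.card W₁) (fittingHallOf T) := IsPGroup.of_card hQcard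
  -- the elements of `C` in `T_F` form `W₁`
  have hCQ : C ⊓ fittingHallOf T = W₁ := by
    refine le_antisymm (fun x hx => ?_) (le_inf hWC hW₁Q)
    by_cases hx1 : x = 1
    · rw [hx1]; exact one_mem _
    haveI := hQel.1
    have hxo : orderOf x = Nat.card W₁ :=
      orderOf_eq_prime (hQel.2 x hx.2) hx1
    have h1 := (hCfpf.mono_left inf_le_left).eq_of_card_prime hLne
      (hQpg.to_le (inf_le_right : C ⊓ fittingHallOf T ≤ fittingHallOf T))
      (W₁.subgroupOf (C ⊓ fittingHallOf T)) (zpowers (⟨x, hx⟩ : ↥(C ⊓ fittingHallOf T)))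
      (Nat.card_congr (subgroupOfEquivOfLe (le_inf hWC hW₁Q)).toEquiv)
      (by rw [Nat.card_zpowers, ← Subgroup.orderOf_coe]; exact hxo)
    have h2 : (⟨x, hx⟩ : ↥(C ⊓ fittingHallOf T)) ∈ W₁.subgroupOf (C ⊓ fittingHallOf T) :=
      h1 ▸ mem_zpowers _
    exact mem_subgroupOf.1 h2
  by_cases hCW₁ : C = W₁
  · left
    refine ⟨hHW, le_antisymm (sup_le hHL hWL) fun x hx => ?_⟩
    obtain ⟨h, hh, c, hc, rfl⟩ := hsup x hx
    exact mul_mem_sup hh (hCW₁ ▸ hc)
  right
  -- some element of order `p` of `C`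
  obtain ⟨c, hc, hcW⟩ := SetLike.exists_of_lt (lt_of_le_of_ne hWC (Ne.symm hCW₁))
  obtain ⟨a, ha, b, hb, hab⟩ := Coprime.exists_mul_of_mem_sup hW₂Q (hCle hc)
  have hb1 : b ≠ 1 := fun e => hcW (by
    rw [e, mul_one] at hab
    exact hCQ ▸ ⟨hc, hab ▸ ha⟩)
  -- the image of `c` in the quotient by `T_F` has order `p`
  have hcp : Nat.card W₂ ∣ orderOf c := by
    have hle : fittingHallOf T ⊔ W₂ ≤ normalizer (fittingHallOf T : Set G) :=
      sup_le le_normalizer hW₂Q
    haveI : ((fittingHallOf T).subgroupOf (fittingHallOf T ⊔ W₂)).Normal :=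
      (normal_subgroupOf_iff_le_normalizer le_sup_left).2 hle
    let π := QuotientGroup.mk' ((fittingHallOf T).subgroupOf (fittingHallOf T ⊔ W₂))
    have h1 : π ⟨c, hCle hc⟩ = π ⟨b, mem_sup_right hb⟩ := by
      have hπ : π ⟨a, mem_sup_left ha⟩ = 1 := (QuotientGroup.eq_one_iff _).2 (mem_subgroupOf.2 ha)
      rw [show (⟨c, hCle hc⟩ : ↥(fittingHallOf T ⊔ W₂)) =
        ⟨a, mem_sup_left ha⟩ * ⟨b, mem_sup_right hb⟩ from Subtype.ext hab, map_mul,
        hπ, one_mul]
    have h2 : orderOf (π ⟨b, mem_sup_right hb⟩) = Nat.card W₂ := by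
      refine orderOf_eq_prime ?_ fun e => hb1 ?_
      · rw [← map_pow]
        convert map_one π
        exact Subtype.ext (congrArg Subtype.val (pow_card_eq_one' (x := (⟨b, hb⟩ : W₂))) :)
      · exact Coprime.inf_eq_bot_of_coprime' (hQcard ▸ ((Nat.coprime_primes hq hp).2 hne).pow_left _)
          (mem_subgroupOf.1 ((QuotientGroup.eq_one_iff _).1 e)) hb
    rw [← h2, ← h1]
    exact (orderOf_map_dvd π _).trans (by rw [← Subgroup.orderOf_coe])
  set z := c ^ (orderOf c / Nat.card W₂) with hz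
  have hzo : orderOf z = Nat.card W₂ := orderOf_pow_orderOf_div (orderOf_pos c).ne' hcp
  have hzC : z ∈ C := pow_mem hc _
  -- conjugate `⟨z⟩` into `W₂`
  have hcopQ : (Nat.card W₂).Coprime (Nat.card (fittingHallOf T)) :=
    hQcard ▸ (((Nat.coprime_primes hq hp).2 hne).pow_left _).symm
  haveI : Group.IsSolvable (fittingHallOf T) := by
    haveI := hQel.1
    exact Group.isSolvable_of_comm fun a b => hQel.1.is_comm.comm a b
  obtain ⟨n, hn, hnz⟩ := Coprime.exists_conj_le_of_solvable (fittingHallOf T) (zpowers z) W₂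
    ((zpowers_le.2 (hCle hzC)).trans (sup_le le_normalizer hW₂Q)) hW₂Q (by assumption)
    (zpowers_le.2 (hCle hzC)) (by rw [Nat.card_zpowers, hzo]; exact hcopQ) hcopQ
  refine ⟨n⁻¹, inv_mem hn, ?_⟩
  have hWy : W₂.map (MulAut.conj n⁻¹).toMonoidHom = zpowers z := by
    refine (eq_of_le_of_card_ge (fun x hx => mem_map.2 ⟨n * x * n⁻¹, hnz x hx, by simp [mul_assoc]⟩) ?_).symm
    rw [card_map_of_injective (MulAut.conj n⁻¹).injective, Nat.card_zpowers, hzo]
  rw [hWy]
  -- `C = W₁ ⊔ ⟨z⟩`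
  have hCeq : W₁ ⊔ zpowers z = C := by
    refine le_antisymm (sup_le hWC (zpowers_le.2 hzC)) fun x hx => ?_
    obtain ⟨a', ha', b', hb', e⟩ := Coprime.exists_mul_of_mem_sup hW₂Q (hCle hx)
    -- `b'` is the image of a power of `n z n⁻¹`
    have hgen : zpowers (⟨n * z * n⁻¹, hnz z (mem_zpowers z)⟩ : W₂) = ⊤ :=
      zpowers_eq_top_of_prime_card (hp := ⟨hp⟩) rfl fun e => by
        have e1 : z = 1 := conj_eq_one_iff.1 (congrArg Subtype.val e)
        rw [e1, orderOf_one] at hzo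
        exact hp.one_lt.ne hzo
    obtain ⟨k, hk⟩ := mem_zpowers_iff.1 (hgen.symm ▸ mem_top (⟨b', hb'⟩ : W₂) :
      (⟨b', hb'⟩ : W₂) ∈ zpowers (⟨n * z * n⁻¹, hnz z (mem_zpowers z)⟩ : W₂))
    have hbk : b' = n * z ^ k * n⁻¹ := by
      rw [← conj_zpow]; exact (congrArg Subtype.val hk).symm
    have hzk : z ^ k ∈ C := zpow_mem hzC k
    have hzkn : z ^ k ∈ normalizer (fittingHallOf T : Set G) :=
      sup_le (le_normalizer) hW₂Q (hCle hzk)
    have hq' : x * (z ^ k)⁻¹ ∈ W₁ := hCQ ▸ mem_inf.2 ⟨mul_mem hx (inv_mem hzk), by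
      rw [e, hbk, show a' * (n * z ^ k * n⁻¹) * (z ^ k)⁻¹ =
        a' * n * (z ^ k * n⁻¹ * (z ^ k)⁻¹) by group]
      exact mul_mem (mul_mem ha' hn) ((mem_normalizer_iff.1 hzkn _).1 (inv_mem hn))⟩
    have := mul_mem_sup hq' (zpow_mem (mem_zpowers z) k)
    rwa [inv_mul_cancel_right] at this
  rw [hCeq]
  refine ⟨hCH, le_antisymm (sup_le hHL inf_le_left) fun x hx => ?_⟩
  obtain ⟨h, hh, c', hc', rfl⟩ := hsup x hx
  exact mul_mem_sup hh hc'

end Cfsg.Agent.PF14
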