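import Cfsg.Prelude.Def_OddOrderLocal
import Cfsg.Agent.PF.KernelNU

/-!
The theorem on the maximal subgroup containing `N(U)`, reduced to the statements it follows from.
-/

set_option autoImplicit false

namespace Cfsg.Agent.PF14

open Cfsg Subgroup

universe u

variable {G : Type u} [Group G] [Finite G]

/-- The complement `W₁` of the derived subgroup has the same order for any choice of data. -/
lemma card_W₁_eq {M W₁ U W₂ W₁' U' W₂' : Subgroup G} (h : IsTypePWith M W₁ U W₂)
    (h' : IsTypePWith M W₁' U' W₂') : Nat.card W₁ = Nat.card W₁' := by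
  have key : ∀ {W₁ U W₂ : Subgroup G}, IsTypePWith M W₁ U W₂ →
      Nat.card M = Nat.card (⁅M, M⁆ : Subgroup G) * Nat.card W₁ := by
    intro W₁ U W₂ h
    obtain ⟨hD, hW, hbot, hmul⟩ := h.W₁_compl
    rw [← Nat.card_prod]
    refine (Nat.card_eq_of_bijective
      (fun ab : (⁅M, M⁆ : Subgroup G) × W₁ =>
        (⟨(ab.1 : G) * ab.2, mul_mem (hD ab.1.2) (hW ab.2.2)⟩ : M)) ⟨?_, ?_⟩).symm
    · rintro ⟨a, b⟩ ⟨a', b'⟩ he
      exact Subgroup.mul_injective_of_disjoint (disjoint_iff.2 hbot)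
        (show (a : G) * b = a' * b' from congrArg Subtype.val he)
    · rintro ⟨z, hz⟩
      obtain ⟨a, ha, b, hb, rfl⟩ := hmul z hz
      exact ⟨(⟨a, ha⟩, ⟨b, hb⟩), rfl⟩
  exact Nat.eq_of_mul_eq_mul_left Nat.card_pos ((key h).symm.trans (key h'))

/-- `W₁` has prime order when `M` is of type II or III. -/
lemma prime_card_W₁ {M W₁ U W₂ : Subgroup G} (h : IsTypePWith M W₁ U W₂)
    (hM : IsOfTypeII M ∨ IsOfTypeIII M) : (Nat.card W₁).Prime := by
  rcases hM with ⟨W₁', U', W₂', h', -, hp, -⟩ | ⟨W₁', U', W₂', h', -, hp, -⟩ <;>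
    exact card_W₁_eq h h' ▸ hp

/-- The two factors of a self-normalizing cyclic subgroup have different orders. -/
lemma card_ne_of_selfNormalizing {W₁ W₂ : Subgroup G} (h : IsSelfNormalizingCyclic W₁ W₂) :
    Nat.card W₁ ≠ Nat.card W₂ := by
  classical
  obtain ⟨h1, -, hbot, -, hcyc, -⟩ := h
  intro e
  refine h1 ((eq_bot_iff_forall _).2 fun x hx => ?_)
  by_contra hx1
  haveI := hcyc
  set W := W₁ ⊔ W₂
  haveI := Fintype.ofFinite W
  let n := Nat.card W₁
  let A : Finset W := Finset.univ.filter fun a : W => (a : G) ∈ W₂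
  have hsub : insert (⟨x, mem_sup_left hx⟩ : W) A ⊆
      Finset.univ.filter fun a : W => a ^ n = 1 := by
    intro a ha
    rw [Finset.mem_filter]
    refine ⟨Finset.mem_univ _, Subtype.ext ?_⟩
    show (a : G) ^ n = 1
    rcases Finset.mem_insert.1 ha with rfl | ha'
    · exact congrArg Subtype.val (pow_card_eq_one' (x := (⟨x, hx⟩ : W₁)))
    · simp only [n]
      rw [e]
      exact congrArg Subtype.val (pow_card_eq_one' (x := (⟨a, (Finset.mem_filter.1 ha').2⟩ : W₂)))
  have hA : A.card = Nat.card W₂ := by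
    rw [← Fintype.card_subtype, ← Nat.card_eq_fintype_card]
    exact Nat.card_congr
      ⟨fun a => ⟨(a.1 : G), a.2⟩, fun a => ⟨⟨a.1, mem_sup_right a.2⟩, a.2⟩, fun _ => rfl, fun _ => rfl⟩
  have hle := (Finset.card_le_card hsub).trans (IsCyclic.card_pow_eq_one_le (α := W) Nat.card_pos)
  rw [Finset.card_insert_of_notMem, hA] at hle
  · omega
  · simp only [A, Finset.mem_filter, Finset.mem_univ, true_and]
    intro hx2
    exact hx1 (mem_bot.1 (hbot ▸ mem_inf.2 ⟨hx, hx2⟩))

/-- The maximal subgroup containing `N(U)` for `S` of type II, from: the facts on the pair `(T, S)`,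
the centralizer of `W₁`, the dichotomy of maximal subgroups and the Frobenius property of type I. -/
theorem normalizer_U_structure (hodd : Odd (Nat.card G)) {S T W₁ W₂ U V : Subgroup G}
    (hS : IsCoatom S) (hSP : IsTypePWith S W₁ U W₂) (hTP : IsTypePWith T W₂ V W₁)
    (hSII : IsOfTypeII S) (hT23 : IsOfTypeII T ∨ IsOfTypeIII T)
    (hQel : IsElementaryAbelian (Nat.card W₁) (fittingHallOf T))
    (hQcard : Nat.card (fittingHallOf T) = Nat.card W₁ ^ Nat.card W₂)
    (hCW : normalizer (W₁ : Set G) = centralizer (W₁ : Set G) ∧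
      centralizer (W₁ : Set G) = fittingHallOf T ⊔ W₂)
    (hclass : ∀ M : Subgroup G, IsCoatom M → IsOfTypeI M ∨
      ∃ g : G, M = S.map (MulAut.conj g).toMonoidHom ∨ M = T.map (MulAut.conj g).toMonoidHom)
    (hfrob : ∀ M : Subgroup G, IsCoatom M → IsOfTypeI M → ∀ x ∈ fittingHallOf M, x ≠ 1 →
      M ⊓ centralizer ({x} : Set G) ≤ fittingHallOf M)
    (L : Subgroup G) (hL : IsCoatom L) (hNU : normalizer (U : Set G) ≤ L) :
    IsOfTypeI L ∧ (∀ x ∈ fittingHallOf L, x ≠ 1 → L ⊓ centralizer ({x} : Set G) ≤ fittingHallOf L) ∧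
      U ≤ fittingHallOf L ∧
      ((fittingHallOf L ⊓ W₁ = ⊥ ∧ fittingHallOf L ⊔ W₁ = L) ∨
        ∃ y ∈ fittingHallOf T,
          fittingHallOf L ⊓ (W₁ ⊔ W₂.map (MulAut.conj y).toMonoidHom) = ⊥ ∧
          fittingHallOf L ⊔ (W₁ ⊔ W₂.map (MulAut.conj y).toMonoidHom) = L) := by
  have hq := prime_card_W₁ hSP (Or.inl hSII)
  have hp := prime_card_W₁ hTP hT23
  have hne := card_ne_of_selfNormalizing hSP.selfNormalizing
  have hU1 : U ≠ ⊥ := by
    intro e
    have := hNU
    rw [e] at this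
    exact hL.1 (top_le_iff.1 fun x _ => this (mem_normalizer_iff.2 fun y => by simp))
  have hfix := inf_centralizer_eq_bot hSP
  have hmod := card_mod_of_prime_fpf hq U W₁ rfl hSP.U_normal hfix
  have hsolv : Group.IsSolvable (fittingHallOf S) := by
    haveI : Group.IsNilpotent (fittingHallOf S) :=
      (Group.isNilpotent_congr ((fittingHall S).equivMapOfInjective S.subtype S.subtype_injective)).1
        (BGUniq.fittingHall_isNilpotent S)
    infer_instance
  have hLI : IsOfTypeI L := by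
    refine (hclass L hL).resolve_right ?_
    rintro ⟨g, rfl | rfl⟩
    · exact not_conj_of_typeII hS hSP hq hmod hSII hsolv g hNU
    · exact not_conj_of_other hq ⟨_, hQcard⟩ (hQcard ▸ dvd_pow_self _ hp.ne_zero) hmod hU1
        hSP.U_normal hfix g hNU
  have hLne : fittingHallOf L ≠ ⊥ := by
    intro e
    exact hLI.1.2.2.1 (map_eq_bot_iff_of_injective _ L.subtype_injective |>.1 e)
  exact ⟨hLI, hfrob L hL hLI,
    frobenius_structure hodd hSP hTP hq hp hne hQel hQcard hU1 hCW.2 hCW.1 hNU hLne (hfrob L hL hLI)⟩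

end Cfsg.Agent.PF14
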