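import Cfsg.Agent.S0161
import Cfsg.Agent.OddChar.SignedIrr
import Cfsg.Agent.OddChar.Twist

/-!
In a group of odd order, two real virtual characters orthogonal to the principal character have
even inner product.
-/

set_option autoImplicit false

namespace Cfsg.Agent.PF14

open Cfsg Cfsg.Agent.CharCore
open scoped ComplexConjugate

universe u

variable {G : Type u} [Group G] [Fintype G]

/-- The complex conjugate of an irreducible character. -/
noncomputable def conjChar (ψ : IrrCharacter G) : IrrCharacter G :=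
  ⟨conjFun (ψ : G → ℂ), OddChar.isIrrCharacter_map (starRingEnd ℂ) ψ.2⟩

lemma conjFun_sum_int (n : IrrCharacter G → ℤ) :
    conjFun (∑ ψ, (n ψ : ℂ) • (ψ : G → ℂ)) = ∑ ψ, (n ψ : ℂ) • (conjChar ψ : G → ℂ) := by
  funext g
  simp [conjFun, conjChar, Finset.sum_apply, map_sum]

lemma conjChar_conjChar (ψ : IrrCharacter G) : conjChar (conjChar ψ) = ψ :=
  Subtype.ext (funext fun g => Complex.conj_conj _)

lemma conjChar_eq_self (hodd : Odd (Nat.card G)) {ψ : IrrCharacter G}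
    (h : conjChar ψ = ψ) : (ψ : G → ℂ) = fun _ => 1 :=
  S0161.result hodd ψ fun g => Complex.conj_eq_iff_im.1 (congrFun (congrArg Subtype.val h) g)

/-- In odd order, real virtual characters orthogonal to `1` have even inner product. -/
theorem inner_even_of_real (hodd : Odd (Nat.card G)) {α β : G → ℂ}
    (hα : IsGeneralizedCharacter G α) (hβ : IsGeneralizedCharacter G β)
    (hαr : conjFun α = α) (hβr : conjFun β = β) (hα1 : classInner α (fun _ => 1) = 0) :
    ∃ m : ℤ, classInner α β = ((2 * m : ℤ) : ℂ) := by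
  classical
  obtain ⟨a, rfl⟩ := OddChar.gen_exists_coeff hα
  obtain ⟨b, rfl⟩ := OddChar.gen_exists_coeff hβ
  let e : IrrCharacter G ≃ IrrCharacter G :=
    ⟨conjChar, conjChar, conjChar_conjChar, conjChar_conjChar⟩
  have hinner : ∀ x y : IrrCharacter G → ℤ,
      classInner (∑ ψ, (x ψ : ℂ) • (ψ : G → ℂ)) (∑ ψ, (y ψ : ℂ) • (ψ : G → ℂ)) =
        ((∑ ψ, x ψ * y ψ : ℤ) : ℂ) := fun x y => by
    rw [classInner_sum_sum]
    simp
  have hcoef : ∀ (x : IrrCharacter G → ℤ) (φ : IrrCharacter G),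
      ((x φ : ℤ) : ℂ) = classInner (∑ ψ, (x ψ : ℂ) • (ψ : G → ℂ)) (φ : G → ℂ) := fun x φ => by
    have h : (φ : G → ℂ) = ∑ ψ, (((if ψ = φ then 1 else 0 : ℤ)) : ℂ) • (ψ : G → ℂ) := by
      simp [ite_smul]
    conv_rhs => rw [h, hinner]
    simp
  have hinv : ∀ (x : IrrCharacter G → ℤ),
      conjFun (∑ ψ, (x ψ : ℂ) • (ψ : G → ℂ)) = (∑ ψ, (x ψ : ℂ) • (ψ : G → ℂ)) →
        ∀ φ, x (conjChar φ) = x φ := by
    intro x hx φ
    have h1 : conjFun (∑ ψ, (x ψ : ℂ) • (ψ : G → ℂ)) =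
        ∑ ψ, (x (conjChar ψ) : ℂ) • (ψ : G → ℂ) := by
      rw [conjFun_sum_int]
      exact Fintype.sum_equiv e _ _ fun ψ => by
        show _ = ((x (conjChar (conjChar ψ)) : ℤ) : ℂ) • (conjChar ψ : G → ℂ)
        rw [conjChar_conjChar]
    rw [hx] at h1
    have h2 := hcoef (fun ψ => x (conjChar ψ)) φ
    rw [← h1, ← hcoef] at h2
    exact_mod_cast h2
  rw [hinner]
  suffices h : ((∑ ψ, a ψ * b ψ : ℤ) : ZMod 2) = 0 by
    obtain ⟨m, hm⟩ := (ZMod.intCast_zmod_eq_zero_iff_dvd _ 2).1 h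
    exact ⟨m, by rw [hm]; push_cast; ring⟩
  rw [Int.cast_sum]
  refine Finset.sum_involution (fun ψ _ => conjChar ψ) (fun ψ _ => ?_) (fun ψ _ hne heq => ?_)
    (fun ψ _ => Finset.mem_univ _) (fun ψ _ => conjChar_conjChar ψ)
  · rw [hinv a hαr ψ, hinv b hβr ψ]
    exact CharTwo.add_self_eq_zero _
  · apply hne
    have h0 := hcoef a ψ
    rw [conjChar_eq_self hodd heq, hα1] at h0
    rw [show a ψ = 0 by exact_mod_cast h0, zero_mul, Int.cast_zero]

end Cfsg.Agent.PF14
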