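import Cfsg.Agent.PF.PrimeDade
import Cfsg.Agent.PFTypeOne.Coherent
import Cfsg.Agent.S0161
import Cfsg.Agent.S1509

/-!
Peterfalvi (4.7)-(4.8): the functions induced from `K` under Hypothesis (4.6), and the columns
`∑ χ (φ * j)` and `∑ η (φ * j)`.
-/

set_option autoImplicit false

namespace Cfsg.Agent.PF

open Cfsg OddChar OddChar.CycTI OddChar.PrimeTI
open scoped ComplexConjugate Classical

section Cols

variable {X : Type*} [Group X] [Finite X] {W₁ W₂ : Subgroup X} [Fintype ↥(D1 W₁ W₂)]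
variable {Y : Type*} [Group Y] [Fintype Y]

/-- The column of `j` in a family indexed by the linear characters of `W₁W₂`. -/
def col (f : (↥(W₁ ⊔ W₂) →* ℂˣ) → Y → ℂ) (j : ↥(W₁ ⊔ W₂) →* ℂˣ) : Y → ℂ :=
  ∑ φ : ↥(D1 W₁ W₂), f (φ.1 * j)

variable {f : (↥(W₁ ⊔ W₂) →* ℂˣ) → Y → ℂ}

theorem inner_col (hs : Split W₁ W₂) (horth : ∀ a b, classInner (f a) (f b) = if a = b then 1 else 0)
    {j k : ↥(W₁ ⊔ W₂) →* ℂˣ} (hj : j ∈ D2 W₁ W₂) (hk : k ∈ D2 W₁ W₂) :
    classInner (col f j) (col f k) = if j = k then (Nat.card W₁ : ℂ) else 0 := by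
  classical
  unfold col
  rw [CharCore.classInner_sum_left]
  split_ifs with h
  · subst h
    rw [Finset.sum_congr rfl (g := fun _ => (1 : ℂ)) fun φ _ => ?_, Finset.sum_const,
      Finset.card_univ, ← Nat.card_eq_fintype_card, hs.card_d1, nsmul_eq_mul, mul_one]
    rw [CharCore.classInner_sum_right, Finset.sum_eq_single φ]
    · rw [horth, if_pos rfl]
    · intro ψ _ hne
      rw [horth, if_neg fun e => hne (Subtype.ext (mul_inj W₁ W₂ φ.2 ψ.2 hj hj e).1.symm)]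
    · simp
  · refine Finset.sum_eq_zero fun φ _ => ?_
    rw [CharCore.classInner_sum_right]
    refine Finset.sum_eq_zero fun ψ _ => ?_
    rw [horth, if_neg fun e => h (mul_inj W₁ W₂ φ.2 ψ.2 hj hk e).2]

end Cols

/-- The functions induced from irreducible characters of `K` whose kernel does not contain `H`. -/
def indAbove {L : Type*} [Group L] [Fintype L] (K H : Subgroup L) : Set (L → ℂ) :=
  {φ | ∃ θ : K → ℂ, IsIrrCharacter K θ ∧ (∃ n : K, (n : L) ∈ H ∧ θ n ≠ θ 1) ∧ φ = indFun K θ}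

theorem indAbove_subset {L : Type*} [Group L] [Fintype L] (K H : Subgroup L) :
    indAbove K H ⊆ inducedIrrAbove K ⊥ := by
  rintro φ ⟨θ, hθ, ⟨n, -, hne⟩, rfl⟩
  refine ⟨θ, hθ, fun e => hne (by rw [e]), fun a ha => ?_, rfl⟩
  rw [show a = 1 from Subtype.ext ha]

theorem indAbove_self {L : Type*} [Group L] [Fintype L] (K : Subgroup L) :
    indAbove K K = inducedIrrAbove K ⊥ := by
  refine Set.Subset.antisymm (indAbove_subset K K) ?_
  rintro φ ⟨θ, hθ, hne, -, rfl⟩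
  refine ⟨θ, hθ, ?_, rfl⟩
  by_contra h
  push Not at h
  refine hne ?_
  haveI := Fintype.ofFinite K
  have hc : θ = θ 1 • (fun _ => (1 : ℂ)) := funext fun n => by simp [h n n.2]
  have h1 := CharCore.classInner_irr_self ⟨θ, hθ⟩
  change classInner θ θ = 1 at h1
  rw [hc, CharCore.classInner_smul_left, CharCore.classInner_smul_right] at h1
  have h11 : classInner (fun _ : K => (1 : ℂ)) (fun _ => 1) = 1 :=
    CharCore.classInner_irr_self ⟨_, CharCore.isIrrCharacter_one⟩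
  rw [h11, mul_one] at h1
  obtain ⟨d, hd, -⟩ := Coherence.char_one_nat (Coherence.irr_isCharacter hθ)
  rw [hd, Complex.conj_natCast] at h1
  have : d * d = 1 := by exact_mod_cast h1
  rw [hc, hd, Nat.eq_one_of_mul_eq_one_left this]
  simp

variable {G : Type*} [Group G]
variable {A A₀ : Set G} {L : Subgroup G} {R : G → Subgroup G} {K H W₁ W₂ : Subgroup L}
variable [Fintype G] [Fintype L]
variable {η : (↥(W₁ ⊔ W₂) →* ℂˣ) → G → ℂ}
variable {χ : (↥(W₁ ⊔ W₂) →* ℂˣ) → (L → ℂ)}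

theorem sgn_mul_self (χ : (↥(W₁ ⊔ W₂) →* ℂˣ) → (L → ℂ)) (ω : ↥(W₁ ⊔ W₂) →* ℂˣ) :
    sgn χ ω * sgn χ ω = 1 := by
  rcases sgn_sq χ ω with e | e <;> simp [e]

theorem sgn_conj (χ : (↥(W₁ ⊔ W₂) →* ℂˣ) → (L → ℂ)) (ω : ↥(W₁ ⊔ W₂) →* ℂˣ) :
    conj (sgn χ ω) = sgn χ ω := by
  rcases sgn_sq χ ω with e | e <;> simp [e]

theorem Eta.orthonormal (E : Eta L W₁ W₂ η) (a b : ↥(W₁ ⊔ W₂) →* ℂˣ) :
    classInner (η a) (η b) = if a = b then 1 else 0 := by
  split_ifs with h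
  · subst h; exact E.self a
  · exact E.orth a b h

/-- `μ_j`: the function induced from the restriction to `K` of the character of `j`. -/
noncomputable def mu (K : Subgroup L) (χ : (↥(W₁ ⊔ W₂) →* ℂˣ) → (L → ℂ))
    (j : ↥(W₁ ⊔ W₂) →* ℂˣ) : L → ℂ :=
  indFun K (fun k : K => (sgn χ j • χ j) k)

section Mu

variable (P : PrimeDade A A₀ L R K H W₁ W₂) (F : Fam P.pti χ)

include P F

theorem PrimeDade.mu_eq_col [Fintype ↥(D1 W₁ W₂)] (j : ↥(W₁ ⊔ W₂) →* ℂˣ) :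
    mu K χ j = sgn χ j • col χ j := by
  rw [mu, F.ind_restrict, col, Finset.smul_sum]
  exact Finset.sum_congr rfl fun φ _ => by rw [F.sgn_eq φ.2]

theorem PrimeDade.mu_one (j : ↥(W₁ ⊔ W₂) →* ℂˣ) :
    mu K χ j 1 = (Nat.card W₁ : ℂ) * (sgn χ j * χ j 1) := by
  rw [mu, CharInd.indFun_apply_one, P.pti.index_K]
  simp

theorem PrimeDade.one_not_mem_d2 {j : ↥(W₁ ⊔ W₂) →* ℂˣ} (hj : j ∈ D2 W₁ W₂) (hj1 : j ≠ 1) :
    ∃ n : K, (n : L) ∈ H ∧ (sgn χ j • χ j) n ≠ (sgn χ j • χ j) 1 := by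
  refine P.restrict_H F ?_
  have := nontrivial_on₂ (one_mem (D1 W₁ W₂)) hj hj1
  simpa using this

theorem PrimeDade.mu_mem {j : ↥(W₁ ⊔ W₂) →* ℂˣ} (hj : j ∈ D2 W₁ W₂) (hj1 : j ≠ 1) :
    mu K χ j ∈ indAbove K H := by
  haveI : Fintype K := Fintype.ofFinite _
  exact ⟨_, F.restrict_irr j, P.one_not_mem_d2 F hj hj1, rfl⟩

theorem PrimeDade.mu_norm [Fintype ↥(D1 W₁ W₂)] {j : ↥(W₁ ⊔ W₂) →* ℂˣ} (hj : j ∈ D2 W₁ W₂) :
    classInner (mu K χ j) (mu K χ j) = (Nat.card W₁ : ℂ) := by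
  rw [P.mu_eq_col F, CharCore.classInner_smul_left, CharCore.classInner_smul_right,
    inner_col P.pti.split F.fam.orthonormal hj hj, if_pos rfl, sgn_conj, ← mul_assoc,
    sgn_mul_self, one_mul]

theorem PrimeDade.mu_not_irr {j : ↥(W₁ ⊔ W₂) →* ℂˣ} (hj : j ∈ D2 W₁ W₂) :
    ¬ IsIrrCharacter L (mu K χ j) := by
  intro h
  have := P.pti.normal
  haveI := P.pti.split.finite_dual
  haveI : Fintype ↥(D1 W₁ W₂) := Fintype.ofFinite _
  have e := (CharCore.isIrrCharacter_iff.1 h).2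
  rw [P.mu_norm F hj] at e
  have := P.pti.one_lt_card₁
  have : Nat.card W₁ = 1 := by exact_mod_cast e
  omega

theorem PrimeDade.mu_inj {j k : ↥(W₁ ⊔ W₂) →* ℂˣ} (hj : j ∈ D2 W₁ W₂) (hk : k ∈ D2 W₁ W₂)
    (e : mu K χ j = mu K χ k) : j = k := by
  have := P.pti.normal
  haveI : Fintype K := Fintype.ofFinite _
  obtain ⟨g, hg⟩ := (Coherence.ind_eq_iff K ⟨_, F.restrict_irr j⟩ ⟨_, F.restrict_irr k⟩).1 e
  refine F.restrict_inj hj hk ?_
  have h := congrArg Subtype.val hg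
  exact h.trans (F.fixed_restrict k g)

/-- The members: the `μ_j` and irreducible characters. -/
theorem PrimeDade.mem_cases {φ : L → ℂ} (hφ : φ ∈ indAbove K H) :
    (∃ j ∈ D2 W₁ W₂, j ≠ 1 ∧ φ = mu K χ j) ∨ IsIrrCharacter L φ := by
  have := P.pti.normal
  haveI : Fintype K := Fintype.ofFinite _
  obtain ⟨θ, hθ, ⟨n, -, hne⟩, rfl⟩ := hφ
  by_cases hfix : ∀ x ∈ W₁, conjBy K x θ = θ
  · obtain ⟨ψ, hψ, e⟩ := F.exists_restrict hθ hfix
    refine Or.inl ⟨ψ, hψ, ?_, by rw [mu, e]⟩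
    rintro rfl
    refine hne ?_
    rw [← e]
    simp [F.fam.map_one]
  · push Not at hfix
    exact Or.inr (P.pti.ind_irr hθ hfix)

omit F in
theorem PrimeDade.mem_isCharacter {φ : L → ℂ} (hφ : φ ∈ indAbove K H) : IsCharacter L φ :=
  Coherence.seq_isCharacter K (indAbove_subset K H hφ)

omit F in
theorem PrimeDade.mem_off {φ : L → ℂ} (hφ : φ ∈ indAbove K H) {x : L} (hx : x ∉ K) : φ x = 0 := by
  have := P.pti.normal
  obtain ⟨θ, -, -, rfl⟩ := hφ
  exact OddChar.indFun_eq_zero_of_notMem K θ hx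

omit F in
theorem PrimeDade.mem_supp {φ : L → ℂ} (hφ : φ ∈ indAbove K H) {x : L} (hx : x ≠ 1)
    (hxA : (x : G) ∉ A₀) : φ x = 0 := by
  obtain ⟨θ, hθ, hH, rfl⟩ := hφ
  exact P.ind_on hθ hH hx fun h => hxA (P.leA₀ h)

omit P F in
theorem indAbove_conj {φ : L → ℂ} (hφ : φ ∈ indAbove K H) : conjFun φ ∈ indAbove K H := by
  obtain ⟨θ, hθ, ⟨n, hn, hne⟩, rfl⟩ := hφ
  refine ⟨conjFun θ, CharCore.isIrrCharacter_star hθ, ⟨n, hn, fun e => hne ?_⟩,
    Coherence.conjFun_indFun K θ⟩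
  simpa [conjFun] using congrArg conj e

theorem PrimeDade.mem_conj_ne (hodd : Odd (Nat.card L)) {φ : L → ℂ} (hφ : φ ∈ indAbove K H) :
    conjFun φ ≠ φ := by
  have := P.pti.normal
  haveI : Fintype K := Fintype.ofFinite _
  intro e
  rcases P.mem_cases F hφ with ⟨j, hj, hj1, rfl⟩ | hirr
  · obtain ⟨n, -, hne⟩ := P.one_not_mem_d2 F hj hj1
    have hθ := F.restrict_irr (χ := χ) j
    obtain ⟨g, hg⟩ := (Coherence.ind_eq_iff K ⟨_, CharCore.isIrrCharacter_star hθ⟩ ⟨_, hθ⟩).1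
      ((Coherence.conjFun_indFun K _).symm.trans e)
    have h := (congrArg Subtype.val hg).trans (F.fixed_restrict j g)
    have h1 := S0161.result (hodd.of_dvd_nat (Subgroup.card_subgroup_dvd_card K)) ⟨_, hθ⟩
      fun k => Complex.conj_eq_iff_im.1 (congrFun h k)
    refine hne ?_
    have a := congrFun h1 n
    have b := congrFun h1 1
    exact a.trans b.symm
  · obtain ⟨x, hx⟩ : ∃ x : L, x ∉ K := by
      by_contra h
      push Not at h
      refine P.pti.ne₁ ?_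
      rw [← P.pti.inf, (eq_top_iff.2 fun x _ => h x : K = ⊤), top_inf_eq]
    have h1 := S0161.result hodd ⟨φ, hirr⟩ fun g => Complex.conj_eq_iff_im.1 (congrFun e g)
    have h2 := P.mem_off hφ hx
    rw [show φ x = 1 from congrFun h1 x] at h2
    exact one_ne_zero h2

omit F in
theorem PrimeDade.zspan_off {α : L → ℂ} (hα : α ∈ zspan (indAbove K H)) {x : L} (hx : x ∉ K) :
    α x = 0 := by
  refine Submodule.span_induction (p := fun β _ => β x = 0) (fun φ h => P.mem_off h hx) rfl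
    (fun a b _ _ ha hb => by simp [ha, hb]) (fun c a _ ha => by simp [ha]) hα

omit F in
theorem PrimeDade.dade_facts :
    IsLinearIsometryOn (zspanOn (indAbove K H) {1}ᶜ) (dadeIsometry A₀ L R) ∧
      (∀ α ∈ zspanOn (indAbove K H) ({1}ᶜ : Set L), dadeIsometry A₀ L R α 1 = 0) ∧
      ∀ α ∈ zspanOn (indAbove K H) ({1}ᶜ : Set L),
        IsClassFunction L α ∧ ∀ x : L, (x : G) ∉ A₀ → α x = 0 :=
  PFTypeOne.dade_isometryOn P.dade _ (fun φ h => Coherence.gen_of_char (P.mem_isCharacter h))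
    fun φ h x hx hxA => P.mem_supp h hx hxA

omit F in
/-- The image of a combination vanishing at `1` vanishes on `W` outside `W₁ ∪ W₂`. -/
theorem PrimeDade.tau_on_V {α : L → ℂ} (hα : α ∈ zspanOn (indAbove K H) ({1}ᶜ : Set L))
    (w : ↥(W₁ ⊔ W₂)) (h1 : (w : L) ∉ W₁) (h2 : (w : L) ∉ W₂) :
    dadeIsometry A₀ L R α ((w : L) : G) = 0 := by
  rw [dadeIsometry_apply P.dade (P.dade_facts.2.2 α hα).1 (a := (w : L)) (P.offA₀ w h1 h2)
    (u := 1) (Subgroup.one_mem _) (x := 1) (by simp)]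
  exact P.zspan_off hα.1 fun h => h2 (P.pti.mem_W2_of_K w h)

omit F in
/-- The grid of a combination vanishing at `1` is additive. -/
theorem PrimeDade.tau_additive (E : Eta L W₁ W₂ η) {α : L → ℂ}
    (hα : α ∈ zspanOn (indAbove K H) ({1}ᶜ : Set L)) {φ j : ↥(W₁ ⊔ W₂) →* ℂˣ}
    (hφ : φ ∈ D1 W₁ W₂) (hj : j ∈ D2 W₁ W₂) :
    classInner (dadeIsometry A₀ L R α) (η (φ * j)) =
      classInner (dadeIsometry A₀ L R α) (η φ) + classInner (dadeIsometry A₀ L R α) (η j) -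
        classInner (dadeIsometry A₀ L R α) (η 1) :=
  E.additive _ (OddChar.isClassFunction_dade P.dade (P.dade_facts.2.2 α hα).1)
    (fun w h1 h2 => P.tau_on_V hα w h1 h2) φ hφ j hj

theorem PrimeDade.mu_conj {j : ↥(W₁ ⊔ W₂) →* ℂˣ} (hj : j ∈ D2 W₁ W₂) (hj1 : j ≠ 1)
    (hodd : Odd (Nat.card L)) :
    ∃ k ∈ D2 W₁ W₂, k ≠ 1 ∧ j ≠ k ∧ conjFun (mu K χ j) = mu K χ k := by
  rcases P.mem_cases F (indAbove_conj (P.mu_mem F hj hj1)) with ⟨k, hk, hk1, e⟩ | h
  · exact ⟨k, hk, hk1, fun q => P.mem_conj_ne F hodd (P.mu_mem F hj hj1) (e.trans (by rw [q])), e⟩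
  · refine absurd ?_ (P.mu_not_irr F hj)
    have h' := CharCore.isIrrCharacter_star h
    simpa [conjFun] using h'

/-- Equal degrees force equal signs. -/
theorem PrimeDade.deg_eq {j k : ↥(W₁ ⊔ W₂) →* ℂˣ} (h : mu K χ j 1 = mu K χ k 1) :
    χ j 1 = χ k 1 ∧ sgn χ j = sgn χ k := by
  rw [P.mu_one F, P.mu_one F] at h
  have h' := mul_left_cancel₀ (Nat.cast_ne_zero.2 Nat.card_pos.ne') h
  by_cases hs : sgn χ j = sgn χ k
  · rw [hs] at h'
    exact ⟨mul_left_cancel₀ (by rcases sgn_sq χ k with e | e <;> simp [e]) h', hs⟩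
  exfalso
  have hneg : χ j 1 + χ k 1 = 0 := by
    rcases sgn_sq χ j with e | e <;> rcases sgn_sq χ k with e' | e' <;> rw [e, e'] at h' hs <;>
      first
        | exact absurd rfl hs
        | linear_combination h'
        | linear_combination -h'
  obtain ⟨n, hn⟩ := F.degree_congr j
  obtain ⟨m, hm⟩ := F.degree_congr k
  have h3 : ((-2 : ℤ) : ℂ) = (((n + m) * (Nat.card W₁ : ℤ) : ℤ) : ℂ) := by
    push_cast; linear_combination hn + hm - hneg
  have hdvd : (Nat.card W₁ : ℤ) ∣ -2 := ⟨n + m, by rw [mul_comm]; exact_mod_cast h3⟩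
  have h2 : Nat.card W₁ ∣ 2 := by exact_mod_cast (Int.dvd_neg.1 hdvd)
  obtain ⟨o1, -, h31, -, -⟩ := card_facts P.pti.selfNorm P.pti.odd
  have := Nat.le_of_dvd (by norm_num) h2
  omega

end Mu

theorem dade_sum {ι : Type*} (s : Finset ι) (f : ι → L → ℂ) :
    dadeIsometry A₀ L R (∑ i ∈ s, f i) = ∑ i ∈ s, dadeIsometry A₀ L R (f i) := by
  funext g
  simp only [dadeIsometry, Finset.sum_apply]
  split_ifs <;> simp

theorem dade_smul (c : ℂ) (α : L → ℂ) :
    dadeIsometry A₀ L R (c • α) = c • dadeIsometry A₀ L R α := by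
  funext g
  simp only [dadeIsometry, Pi.smul_apply]
  split_ifs <;> simp

theorem PrimeDade.tau_mu_sub (P : PrimeDade A A₀ L R K H W₁ W₂) (F : Fam P.pti χ)
    (E : Eta L W₁ W₂ η) [Fintype ↥(D1 W₁ W₂)] {j k : ↥(W₁ ⊔ W₂) →* ℂˣ} (hj : j ∈ D2 W₁ W₂)
    (hk : k ∈ D2 W₁ W₂) (hj1 : j ≠ 1) (hk1 : k ≠ 1) (hdeg : mu K χ j 1 = mu K χ k 1) :
    dadeIsometry A₀ L R (mu K χ j - mu K χ k) = sgn χ j • (col η j - col η k) := by
  obtain ⟨h1, h2⟩ := P.deg_eq F hdeg
  have e : mu K χ j - mu K χ k =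
      sgn χ j • ∑ φ : ↥(D1 W₁ W₂), (χ (φ.1 * j) - χ (φ.1 * k)) := by
    rw [P.mu_eq_col F, P.mu_eq_col F, ← h2, ← smul_sub, col, col, ← Finset.sum_sub_distrib]
  rw [e, dade_smul, dade_sum, col, col, ← Finset.sum_sub_distrib]
  refine congrArg _ (Finset.sum_congr rfl fun φ _ => ?_)
  by_cases hjk : j = k
  · subst hjk
    rw [sub_self, sub_self]
    funext g
    simp [dadeIsometry]
  · exact P.tau_sub F E φ.2 hj hk hj1 hk1 hjk h1

/-- An irreducible character of `G` whose difference with its conjugate vanishes off the grid is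
orthogonal to every member of the family. -/
theorem Eta.irr_orth (E : Eta L W₁ W₂ η) (P : PrimeDade A A₀ L R K H W₁ W₂) {μ : G → ℂ}
    (hμ : IsIrrCharacter G μ) (hne : conjFun μ ≠ μ) {α : L → ℂ}
    (hα : α ∈ zspanOn (indAbove K H) ({1}ᶜ : Set L))
    (he : dadeIsometry A₀ L R α = μ - conjFun μ) (ω : ↥(W₁ ⊔ W₂) →* ℂˣ) :
    classInner μ (η ω) = 0 ∧ classInner (conjFun μ) (η ω) = 0 := by
  classical
  have hμc : IsIrrCharacter G (conjFun μ) := CharCore.isIrrCharacter_star hμ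
  obtain ⟨p, hp⟩ := E.exists_point (Or.inl hμ)
  obtain ⟨q, hq⟩ := E.exists_point (Or.inl hμc)
  have hs := P.pti.split
  haveI := hs.finite_dual
  haveI : Fintype ↥(D1 W₁ W₂) := Fintype.ofFinite _
  haveI : Fintype ↥(D2 W₁ W₂) := Fintype.ofFinite _
  obtain ⟨-, -, h31, h32, -⟩ := card_facts P.pti.selfNorm P.pti.odd
  set c := fun ω => classInner (μ - conjFun μ) (η ω) with hc
  have hadd : ∀ (φ : ↥(D1 W₁ W₂)) (j : ↥(D2 W₁ W₂)), c (φ.1 * j.1) = (c φ.1 - c 1) + c j.1 := by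
    intro φ j
    have := P.tau_additive E hα φ.2 j.2
    rw [he] at this
    simp only [hc]
    rw [this]; ring
  obtain ⟨p1, hp1, p2, hp2, hpe⟩ := CycTI.exists_factor W₁ W₂ hs.disj hs.comm p
  obtain ⟨q1, hq1, q2, hq2, hqe⟩ := CycTI.exists_factor W₁ W₂ hs.disj hs.comm q
  have hzero : c ω = 0 := by
    obtain ⟨w1, hw1, w2, hw2, rfl⟩ := CycTI.exists_factor W₁ W₂ hs.disj hs.comm ω
    rw [hadd ⟨w1, hw1⟩ ⟨w2, hw2⟩]
    refine additive_sparse (X := ↥(D1 W₁ W₂)) (Y := ↥(D2 W₁ W₂))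
      (by rw [← Nat.card_eq_fintype_card, hs.card_d1]; exact h31)
      (by rw [← Nat.card_eq_fintype_card, hs.card_d2]; exact h32)
      (fun i => c i.1 - c 1) (fun j => c j.1) (⟨p1, hp1⟩, ⟨p2, hp2⟩) (⟨q1, hq1⟩, ⟨q2, hq2⟩)
      (fun i j a b => ?_) _ _
    rw [← hadd]
    simp only [hc]
    rw [CharCore.classInner_sub_left, hp _ ?_, hq _ ?_, sub_zero]
    · intro e
      obtain ⟨u, v⟩ := mul_inj W₁ W₂ i.2 hq1 j.2 hq2 (e.trans hqe.symm)
      exact b (Prod.ext (Subtype.ext u) (Subtype.ext v))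
    · intro e
      obtain ⟨u, v⟩ := mul_inj W₁ W₂ i.2 hp1 j.2 hp2 (e.trans hpe.symm)
      exact a (Prod.ext (Subtype.ext u) (Subtype.ext v))
  simp only [hc] at hzero
  rw [CharCore.classInner_sub_left, sub_eq_zero] at hzero
  suffices h : classInner μ (η ω) = 0 from ⟨h, by rw [← hzero, h]⟩
  have horth : classInner μ (conjFun μ) = 0 := Coherence.irr_inner_ne hμ hμc hne.symm
  rcases signed_eq_or_inner (α := μ) (Or.inl hμ) (E.signed ω) with e | e | e
  · rw [e] at hzero horth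
    have h1 := congrArg conj hzero
    rw [CharCore.conj_classInner, CharCore.conj_classInner, horth, E.self] at h1
    exact absurd h1 one_ne_zero
  · rw [e] at hzero horth
    have h1 := congrArg conj hzero
    rw [CharCore.conj_classInner, CharCore.conj_classInner, CharCore.classInner_neg_right,
      E.self] at h1
    rw [CharCore.classInner_neg_left, ← h1] at horth
    simp at horth
  · exact e

end Cfsg.Agent.PF
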